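import Groth.Agent.CalgA.DimFormula2
import Mathlib.RingTheory.KrullDimension.PID
import Mathlib.Algebra.Field.Subfield.Basic

/-!
# Subrings of finitely generated fields have finite dimension
-/

set_option autoImplicit false
universe u v

namespace K832.DimSub

open Cardinal

theorem dim_le {D : Type v} {B : Type u} [CommRing D] [IsDomain D] [IsNoetherianRing D]
    [CommRing B] [IsDomain B] [Algebra D B] [FaithfulSMul D B] (d0 d : ℕ)
    (h0 : ∀ p : Ideal D, p.IsPrime → p.height ≤ d0) (hd : Algebra.trdeg D B ≤ d) :
    ringKrullDim B ≤ ((d0 + d : ℕ) : WithBot ℕ∞) := by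
  classical
  refine iSup_le fun l => ?_
  have h1 : ∀ i : Fin l.length, ∃ x : B, x ∈ (l i.succ).asIdeal ∧ x ∉ (l i.castSucc).asIdeal := by
    intro i
    exact Set.exists_of_ssubset (l.step i : (l i.castSucc).asIdeal < (l i.succ).asIdeal)
  choose x hx hx' using h1
  let A : Subalgebra D B := Algebra.adjoin D (Set.range x)
  have hft : Algebra.FiniteType D A := by
    rw [← Subalgebra.fg_iff_finiteType]
    exact ⟨(Set.finite_range x).toFinset, by rw [Set.Finite.coe_toFinset]⟩
  have hA : FaithfulSMul D A := by
    rw [faithfulSMul_iff_algebraMap_injective]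
    intro a b hab
    exact FaithfulSMul.algebraMap_injective D B (congrArg Subtype.val hab)
  let l' : LTSeries (PrimeSpectrum A) :=
    { length := l.length
      toFun := fun i => (l i).comap (algebraMap A B)
      step := by
        intro i
        change (l i.castSucc).comap (algebraMap A B) < (l i.succ).comap (algebraMap A B)
        refine lt_of_le_of_ne ?_ ?_
        · exact Ideal.comap_mono (l.step i).le
        · intro h
          apply hx' i
          have h2 : (⟨x i, Algebra.subset_adjoin ⟨i, rfl⟩⟩ : A) ∈
              ((l i.succ).comap (algebraMap A B)).asIdeal := hx i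
          rw [← h] at h2
          exact h2 }
  let q := (l' (Fin.last _)).asIdeal
  have hq : q.IsPrime := (l' (Fin.last _)).isPrime
  have hlq : (l.length : ℕ∞) ≤ q.height := by
    rw [PrimeSpectrum.height_eq_orderHeight]
    exact Order.length_le_height_last (p := l')
  obtain ⟨a, b, t, t', e1, e2, e3, e4, e5, -⟩ :=
    Groth.Agent.CalgA.DimFormula2.exists_dimension_formula (R := D) (S := A) (q.under D) q
  have h2 : (t : Cardinal.{u}) ≤ d := by
    rw [← e3]
    exact (trdeg_le_of_injective A.val Subtype.val_injective).trans hd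
  have h3 : t ≤ d := by exact_mod_cast h2
  have h4 : (b : ℕ∞) ≤ d0 := by
    rw [← e2]
    exact h0 _ inferInstance
  have h5 : b ≤ d0 := by exact_mod_cast h4
  rw [e1] at hlq
  have h6 : l.length ≤ a := by exact_mod_cast hlq
  have h7 : l.length ≤ d0 + d := by omega
  exact_mod_cast h7

theorem trdeg_le_card {D : Type v} {L : Type u} [CommRing D] [IsDomain D] [Field L] [Algebra D L]
    [FaithfulSMul D L] (s : Set L) (K : Subfield L) (hK : K = Subfield.closure s)
    [Algebra D K] [IsScalarTower D K L] : Algebra.trdeg D K ≤ #s := by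
  have hs : ∀ x ∈ s, x ∈ K := fun x hx => hK ▸ Subfield.subset_closure hx
  let s' : Set K := Subtype.val ⁻¹' s
  have hcl : Subring.closure s ≤ (Algebra.adjoin D s').toSubring.map K.subtype := by
    rw [Subring.closure_le]
    intro x hx
    exact ⟨⟨x, hs x hx⟩, Algebra.subset_adjoin hx, rfl⟩
  have hcard : #s' = #s := by
    refine Cardinal.mk_congr ⟨fun x => ⟨x.1, x.2⟩, fun x => ⟨⟨x.1, hs x.1 x.2⟩, x.2⟩, ?_, ?_⟩
    · intro x
      rfl
    · intro x
      rfl
  rw [← hcard]
  have halg : Algebra.IsAlgebraic (Algebra.adjoin D s') K := by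
    constructor
    intro x
    have hx : (x : L) ∈ Subfield.closure s := hK ▸ x.2
    rw [Subfield.mem_closure_iff] at hx
    obtain ⟨y, hy, z, hz, hyz⟩ := hx
    obtain ⟨y', hy', rfl⟩ := hcl hy
    obtain ⟨z', hz', rfl⟩ := hcl hz
    have hx2 : x = y' / z' := by
      apply Subtype.ext
      rw [← hyz]
      rfl
    rw [hx2, div_eq_mul_inv]
    have h1 : IsAlgebraic (Algebra.adjoin D s') y' :=
      isAlgebraic_algebraMap (⟨y', hy'⟩ : Algebra.adjoin D s')
    have h2 : IsAlgebraic (Algebra.adjoin D s') z' :=
      isAlgebraic_algebraMap (⟨z', hz'⟩ : Algebra.adjoin D s')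
    exact h1.mul h2.inv
  exact Algebra.IsAlgebraic.trdeg_le_cardinalMk D s'

/-- Subrings of finitely generated fields have finite dimension. -/
theorem dim_lt_top {L : Type u} [Field L] (s : Finset L) (B : Type u) [CommRing B] (f : B →+* L)
    (hf : Function.Injective f) (hs : ∀ b, f b ∈ Subfield.closure (s : Set L)) :
    ringKrullDim B < ⊤ := by
  classical
  have hdB : IsDomain B := hf.isDomain f
  let K := Subfield.closure (s : Set L)
  let D := ℤ ⧸ RingHom.ker (algebraMap ℤ L)
  have hkp : (RingHom.ker (algebraMap ℤ L)).IsPrime := RingHom.ker_isPrime _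
  have hD : IsDomain D := Ideal.Quotient.isDomain _
  have hker : RingHom.ker (algebraMap ℤ B) = RingHom.ker (algebraMap ℤ L) := by
    have h1 : f.comp (algebraMap ℤ B) = algebraMap ℤ L := RingHom.ext_int _ _
    rw [← h1, RingHom.ker_comp_of_injective _ hf]
  have hkerK : RingHom.ker (algebraMap ℤ K) = RingHom.ker (algebraMap ℤ L) := by
    have h1 : K.subtype.comp (algebraMap ℤ K) = algebraMap ℤ L := RingHom.ext_int _ _
    rw [← h1, RingHom.ker_comp_of_injective _ K.subtype_injective]
  let _ : Algebra D B := (Ideal.Quotient.lift _ (algebraMap ℤ B) (by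
    intro a ha
    rwa [← hker] at ha)).toAlgebra
  let _ : Algebra D L := (Ideal.Quotient.lift _ (algebraMap ℤ L) (fun a ha => ha)).toAlgebra
  let _ : Algebra D K := (Ideal.Quotient.lift _ (algebraMap ℤ K) (by
    intro a ha
    rwa [← hkerK] at ha)).toAlgebra
  have hinjB : Function.Injective (algebraMap D B) := by
    change Function.Injective (Ideal.Quotient.lift _ _ _)
    exact RingHom.lift_injective_of_ker_le_ideal _ _ hker.le
  have hinjL : Function.Injective (algebraMap D L) := by
    change Function.Injective (Ideal.Quotient.lift _ _ _)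
    exact RingHom.lift_injective_of_ker_le_ideal _ _ le_rfl
  have : FaithfulSMul D B := (faithfulSMul_iff_algebraMap_injective D B).2 hinjB
  have : FaithfulSMul D L := (faithfulSMul_iff_algebraMap_injective D L).2 hinjL
  have : IsScalarTower D K L := by
    refine IsScalarTower.of_algebraMap_eq' ?_
    apply Ideal.Quotient.ringHom_ext
    exact RingHom.ext_int _ _
  let g : B →ₐ[D] K :=
    { toRingHom := f.codRestrict K hs
      commutes' := by
        intro d
        obtain ⟨n, rfl⟩ := Ideal.Quotient.mk_surjective d
        have h1 : (f.codRestrict K hs).comp (algebraMap ℤ B) = algebraMap ℤ K := RingHom.ext_int _ _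
        exact congrArg (fun h => h n) h1 }
  have hg : Function.Injective g := by
    intro a b hab
    exact hf (congrArg Subtype.val hab)
  have htr : Algebra.trdeg D B ≤ ((s.card : ℕ) : Cardinal.{u}) := by
    refine (trdeg_le_of_injective g hg).trans ((trdeg_le_card (s : Set L) K rfl).trans ?_)
    exact Cardinal.mk_coe_finset.le
  have hdim : ringKrullDim D ≤ 1 := by
    refine (ringKrullDim_quotient_le _).trans ?_
    exact_mod_cast (Ring.krullDimLE_iff (n := 1) (R := ℤ)).1 inferInstance
  have h1 := dim_le (D := D) (B := B) 1 s.card (fun p hp => ?_) htr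
  · refine lt_of_le_of_lt h1 ?_
    exact WithBot.coe_lt_coe.2 (ENat.natCast_lt_top _)
  · have h2 := Ideal.height_le_ringKrullDim_of_ne_top hp.ne_top
    have h3 := h2.trans hdim
    exact_mod_cast h3

end K832.DimSub
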