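import Mathlib.RingTheory.AdicCompletion.Functoriality
import Mathlib.RingTheory.Spectrum.Maximal.Basic
import Mathlib.RingTheory.Localization.AtPrime.Basic
import Mathlib.RingTheory.Ideal.Quotient.Operations
import Mathlib.Tactic.LinearCombination

/-!
# Ideals contained in finitely many primes, all maximal
-/

set_option autoImplicit false
universe u

namespace K832.CoheightZero

variable {R : Type u} [CommRing R] {ι : Type*} (m : ι → Ideal R) [∀ i, (m i).IsPrime]
  (J : Ideal R)

/-- The kernel of `R → R_{m i} / J R_{m i}`. -/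
def K (i : ι) : Ideal R :=
  (J.map (algebraMap R (Localization.AtPrime (m i)))).comap (algebraMap R _)

omit [∀ i, (m i).IsPrime] in
theorem exists_notMem (hmax : ∀ i, (m i).IsMaximal) (hinj : Function.Injective m) [Finite ι]
    (i : ι) : ∃ t, t ∉ m i ∧ ∀ j, j ≠ i → t ∈ m j := by
  classical
  have := Fintype.ofFinite ι
  have h : ∀ j, ∃ t, t ∉ m i ∧ (j ≠ i → t ∈ m j) := by
    intro j
    by_cases hj : j = i
    · exact ⟨1, (Ideal.ne_top_iff_one _).1 (hmax i).ne_top, fun h => absurd hj h⟩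
    · have : ¬ m j ≤ m i := fun h => hj (hinj ((hmax j).eq_of_le (hmax i).ne_top h))
      obtain ⟨t, ht, ht'⟩ := SetLike.not_le_iff_exists.1 this
      exact ⟨t, ht', fun _ => ht⟩
  choose t ht ht' using h
  refine ⟨∏ j, t j, ?_, fun j hj => ?_⟩
  · have := (hmax i).isPrime
    rw [this.prod_mem_iff]
    rintro ⟨j, -, hj⟩
    exact ht j hj
  · exact Ideal.mem_of_dvd _ (Finset.dvd_prod_of_mem t (Finset.mem_univ j)) (ht' j hj)

theorem mem_K_iff (i : ι) (x : R) : x ∈ K m J i ↔ ∃ s ∉ m i, s * x ∈ J := by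
  rw [K, Ideal.mem_comap, IsLocalization.algebraMap_mem_map_algebraMap_iff (m i).primeCompl]
  rfl

variable {m J}

theorem eq_of_K_le [Finite ι] (hmax : ∀ i, (m i).IsMaximal) (hinj : Function.Injective m)
    (hJ : ∀ p : Ideal R, p.IsPrime → J ≤ p → ∃ i, p = m i) (i : ι)
    (q : Ideal R) [hq : q.IsPrime] (h : K m J i ≤ q) : q = m i := by
  have hJK : J ≤ K m J i := Ideal.le_comap_map
  obtain ⟨j, rfl⟩ := hJ q hq (hJK.trans h)
  by_contra hne
  have hij : j ≠ i := fun h => hne (by rw [h])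
  obtain ⟨t, ht, ht'⟩ := exists_notMem m hmax hinj i
  obtain ⟨t', h1, h2⟩ := exists_notMem m hmax hinj j
  have h3 : t * t' ∈ J.radical := by
    rw [Ideal.radical_eq_sInf, Ideal.mem_sInf]
    intro p hp
    obtain ⟨k, hk⟩ := hJ p hp.2 hp.1
    subst hk
    by_cases hki : k = i
    · subst hki
      exact Ideal.mul_mem_left _ _ (h2 k hij.symm)
    · exact Ideal.mul_mem_right _ _ (ht' k hki)
  obtain ⟨n, hn⟩ := h3
  rw [mul_pow] at hn
  have h4 : t' ^ n ∈ K m J i := by
    rw [mem_K_iff]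
    exact ⟨t ^ n, fun h => ht ((hmax i).isPrime.mem_of_pow_mem n h), hn⟩
  exact h1 ((hmax j).isPrime.mem_of_pow_mem n (h h4))

theorem isCoprime_K [Finite ι] (hmax : ∀ i, (m i).IsMaximal) (hinj : Function.Injective m)
    (hJ : ∀ p : Ideal R, p.IsPrime → J ≤ p → ∃ i, p = m i) {i j : ι} (hij : i ≠ j) :
    IsCoprime (K m J i) (K m J j) := by
  rw [Ideal.isCoprime_iff_sup_eq]
  by_contra h
  obtain ⟨q, hq, hle⟩ := Ideal.exists_le_maximal _ h
  have := hq.isPrime
  have h1 := eq_of_K_le hmax hinj hJ i q (le_sup_left.trans hle)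
  have h2 := eq_of_K_le hmax hinj hJ j q (le_sup_right.trans hle)
  exact hij (hinj (h1.symm.trans h2))

theorem exists_inv [Finite ι] (hmax : ∀ i, (m i).IsMaximal) (hinj : Function.Injective m)
    (hJ : ∀ p : Ideal R, p.IsPrime → J ≤ p → ∃ i, p = m i) (i : ι) (s : R) (hs : s ∉ m i) :
    ∃ r, r * s - 1 ∈ K m J i := by
  have h : Ideal.span {s} ⊔ K m J i = ⊤ := by
    by_contra h
    obtain ⟨q, hq, hle⟩ := Ideal.exists_le_maximal _ h
    have := hq.isPrime
    have h1 := eq_of_K_le hmax hinj hJ i q (le_sup_right.trans hle)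
    apply hs
    rw [← h1]
    exact hle (Ideal.mem_sup_left (Ideal.mem_span_singleton_self s))
  have h1 : (1 : R) ∈ Ideal.span {s} ⊔ K m J i := by rw [h]; trivial
  rw [Submodule.mem_sup] at h1
  obtain ⟨y, hy, z, hz, hyz⟩ := h1
  obtain ⟨r, rfl⟩ := Ideal.mem_span_singleton'.1 hy
  refine ⟨r, ?_⟩
  rw [← hyz]
  simpa using hz

theorem exists_approx_one [Finite ι] (hmax : ∀ i, (m i).IsMaximal) (hinj : Function.Injective m)
    (hJ : ∀ p : Ideal R, p.IsPrime → J ≤ p → ∃ i, p = m i) (i : ι)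
    (y : Localization.AtPrime (m i)) :
    ∃ x : R, algebraMap R _ x - y ∈ J.map (algebraMap R (Localization.AtPrime (m i))) := by
  obtain ⟨⟨a, s⟩, rfl⟩ := IsLocalization.mk'_surjective (m i).primeCompl y
  obtain ⟨r, hr⟩ := exists_inv hmax hinj hJ i s s.2
  refine ⟨a * r, ?_⟩
  have h : algebraMap R (Localization.AtPrime (m i)) (a * r) -
      IsLocalization.mk' _ a s = IsLocalization.mk' _ a s *
        algebraMap R (Localization.AtPrime (m i)) (r * s - 1) := by
    have h0 := IsLocalization.mk'_spec (Localization.AtPrime (m i)) a s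
    rw [map_sub, map_one, map_mul, map_mul]
    linear_combination (-algebraMap R (Localization.AtPrime (m i)) r) * h0
  dsimp only
  rw [h]
  exact Ideal.mul_mem_left _ _ hr

/-- Simultaneous approximation. -/
theorem exists_approx [Finite ι] (hmax : ∀ i, (m i).IsMaximal) (hinj : Function.Injective m)
    (hJ : ∀ p : Ideal R, p.IsPrime → J ≤ p → ∃ i, p = m i)
    (y : ∀ i, Localization.AtPrime (m i)) :
    ∃ x : R, ∀ i, algebraMap R _ x - y i ∈
      J • (⊤ : Submodule R (Localization.AtPrime (m i))) := by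
  choose x hx using fun i => exists_approx_one hmax hinj hJ i (y i)
  obtain ⟨z, hz⟩ := Ideal.exists_forall_sub_mem_ideal
    (I := K m J) (fun i j hij => isCoprime_K hmax hinj hJ hij) x
  refine ⟨z, fun i => ?_⟩
  rw [Ideal.smul_top_eq_map, Submodule.restrictScalars_mem]
  have h1 : algebraMap R (Localization.AtPrime (m i)) (z - x i) ∈
      J.map (algebraMap R (Localization.AtPrime (m i))) := hz i
  have h2 := Ideal.add_mem _ h1 (hx i)
  rwa [map_sub, sub_add_sub_cancel] at h2

theorem mem_of_forall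
    (hJ : ∀ p : Ideal R, p.IsPrime → J ≤ p → ∃ i, p = m i) (x : R)
    (hx : ∀ i, algebraMap R _ x ∈ J • (⊤ : Submodule R (Localization.AtPrime (m i)))) :
    x ∈ J • (⊤ : Submodule R R) := by
  rw [smul_eq_mul, Ideal.mul_top]
  have hx' : ∀ i, x ∈ K m J i := by
    intro i
    have := hx i
    rwa [Ideal.smul_top_eq_map, Submodule.restrictScalars_mem] at this
  by_contra hxJ
  have h1 : J.colon ({x} : Set R) ≠ ⊤ := by
    intro h
    apply hxJ
    have h2 : (1 : R) ∈ J.colon ({x} : Set R) := by rw [h]; trivial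
    rw [Submodule.mem_colon_singleton] at h2
    simpa using h2
  obtain ⟨q, hq, hle⟩ := Ideal.exists_le_maximal _ h1
  have hJle : J ≤ J.colon ({x} : Set R) := by
    intro z hz
    rw [Submodule.mem_colon_singleton]
    exact Ideal.mul_mem_right _ _ hz
  obtain ⟨i, rfl⟩ := hJ q hq.isPrime (hJle.trans hle)
  obtain ⟨s, hs, hs'⟩ := (mem_K_iff m J i x).1 (hx' i)
  apply hs
  apply hle
  rw [Submodule.mem_colon_singleton]
  exact hs'

end K832.CoheightZero
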