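import Mathlib.RingTheory.Valuation.ValuationRing
import Mathlib.RingTheory.Localization.AtPrime.Basic
import Mathlib.RingTheory.Ideal.Quotient.Operations
import Mathlib.RingTheory.Ideal.Height
import Mathlib.RingTheory.KrullDimension.Basic

/-!
# Basic facts on Prüfer domains (all local rings are valuation rings)
-/

set_option autoImplicit false
universe u

namespace K832.Basic

/-- The condition used by the statements: all local rings are valuation rings. -/
def IsPruf (R : Type u) [CommRing R] [IsDomain R] : Prop :=
  ∀ (p : Ideal R) [p.IsPrime], ValuationRing (Localization.AtPrime p)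

theorem valuationRing_of_ringEquiv {A B : Type*} [CommRing A] [IsDomain A] [CommRing B] [IsDomain B]
    [ValuationRing A] (e : A ≃+* B) : ValuationRing B :=
  Function.Surjective.valuationRing (e : A →+* B) e.surjective

/-- Any model of the local ring is a valuation ring. -/
theorem IsPruf.atPrime {R : Type u} [CommRing R] [IsDomain R] (hR : IsPruf R)
    (p : Ideal R) [p.IsPrime] (L : Type*) [CommRing L] [IsDomain L] [Algebra R L]
    [IsLocalization.AtPrime L p] : ValuationRing L := by
  have := hR p
  exact valuationRing_of_ringEquiv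
    (IsLocalization.algEquiv p.primeCompl (Localization.AtPrime p) L).toRingEquiv

theorem IsPruf.localization {R : Type u} [CommRing R] [IsDomain R] (hR : IsPruf R)
    (S : Submonoid R) (B : Type u) [CommRing B] [IsDomain B] [Algebra R B] [IsLocalization S B] :
    IsPruf B := by
  intro q hq
  let p : Ideal R := q.comap (algebraMap R B)
  have hp : p.IsPrime := Ideal.comap_isPrime _ _
  have : IsLocalization.AtPrime (Localization.AtPrime q) p :=
    IsLocalization.isLocalization_isLocalization_atPrime_isLocalization (M := S)
      (Localization.AtPrime q) q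
  exact hR.atPrime p _

theorem IsPruf.quotient {R : Type u} [CommRing R] [IsDomain R] (hR : IsPruf R)
    (I : Ideal R) [I.IsPrime] : IsPruf (R ⧸ I) := by
  intro q hq
  let Q : Ideal R := q.comap (Ideal.Quotient.mk I)
  have hQ : Q.IsPrime := Ideal.comap_isPrime _ _
  have := hR Q
  refine Function.Surjective.valuationRing
    (Localization.localRingHom Q q (Ideal.Quotient.mk I) rfl) ?_
  intro x
  obtain ⟨⟨a, s⟩, rfl⟩ := IsLocalization.mk'_surjective q.primeCompl x
  obtain ⟨a, rfl⟩ := Ideal.Quotient.mk_surjective a
  obtain ⟨s, hs⟩ := s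
  obtain ⟨s, rfl⟩ := Ideal.Quotient.mk_surjective s
  refine ⟨IsLocalization.mk' _ a (⟨s, hs⟩ : Q.primeCompl), ?_⟩
  rw [Localization.localRingHom_mk']

/-- A valuation ring is a Prüfer domain. -/
theorem isPruf_of_valuationRing (R : Type u) [CommRing R] [IsDomain R] [ValuationRing R] :
    IsPruf R := by
  intro p hp
  refine @ValuationRing.mk _ _ _ ⟨?_⟩
  intro a b
  obtain ⟨⟨a, s⟩, rfl⟩ := IsLocalization.mk'_surjective p.primeCompl a
  obtain ⟨⟨b, t⟩, rfl⟩ := IsLocalization.mk'_surjective p.primeCompl b
  obtain ⟨c, hc | hc⟩ := ValuationRing.cond a b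
  · refine ⟨IsLocalization.mk' _ (c * s) t, Or.inl ?_⟩
    dsimp only
    rw [← IsLocalization.mk'_mul, IsLocalization.mk'_eq_iff_eq]
    rw [← hc, Submonoid.coe_mul]
    congr 1
    ring
  · refine ⟨IsLocalization.mk' _ (c * t) s, Or.inr ?_⟩
    dsimp only
    rw [← IsLocalization.mk'_mul, IsLocalization.mk'_eq_iff_eq]
    rw [← hc, Submonoid.coe_mul]
    congr 1
    ring

/-- In a Prüfer domain the primes contained in a given prime form a chain. -/
theorem IsPruf.le_total {R : Type u} [CommRing R] [IsDomain R] (hR : IsPruf R)
    (m : Ideal R) [m.IsPrime] {p q : Ideal R} [p.IsPrime] [q.IsPrime] (hp : p ≤ m) (hq : q ≤ m) :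
    p ≤ q ∨ q ≤ p := by
  have := hR m
  have hd : ∀ (p : Ideal R) [p.IsPrime], p ≤ m → Disjoint (m.primeCompl : Set R) (p : Set R) := by
    intro p hp' h
    rw [Set.disjoint_left]
    intro x hx hx'
    exact hx (h hx')
  have h1 : (p.map (algebraMap R (Localization.AtPrime m))).comap (algebraMap R _) = p :=
    IsLocalization.under_map_of_isPrime_disjoint m.primeCompl _ ‹_› (hd p hp)
  have h2 : (q.map (algebraMap R (Localization.AtPrime m))).comap (algebraMap R _) = q :=
    IsLocalization.under_map_of_isPrime_disjoint m.primeCompl _ ‹_› (hd q hq)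
  rcases Std.Total.total (r := (· ≤ ·)) (p.map (algebraMap R (Localization.AtPrime m)))
    (q.map (algebraMap R (Localization.AtPrime m))) with h | h
  · left
    rw [← h1, ← h2]
    exact Ideal.comap_mono h
  · right
    rw [← h1, ← h2]
    exact Ideal.comap_mono h

end K832.Basic
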