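import Groth.Agent.ValPrufer.K832.Basic
import Mathlib.RingTheory.Valuation.ValuationSubring
import Mathlib.RingTheory.Spectrum.Maximal.Localization
import Mathlib.Algebra.Ring.GeomSum
import Mathlib.Algebra.CharP.Basic
import Mathlib.GroupTheory.OrderOfElement

/-!
# Finite intersections of valuation rings and a subfield
-/

set_option autoImplicit false
universe u

namespace K832.InterVal

open K832.Basic Finset

/-- Geometric sums in a field are nonzero for suitable lengths. -/
theorem exists_geom_ne_zero {k : Type*} [Field k] (x : k) :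
    ∃ d : ℕ, 2 ≤ d ∧ ∀ s : ℕ, ¬ d ∣ s → ∑ j ∈ range s, x ^ j ≠ 0 := by
  classical
  by_cases hx : x = 1
  · subst hx
    by_cases h0 : ringChar k = 0
    · refine ⟨2, le_rfl, fun s hs h => ?_⟩
      rw [Finset.sum_congr rfl (fun j _ => one_pow j), sum_const, card_range, nsmul_eq_mul, mul_one,
        ringChar.spec, h0, zero_dvd_iff] at h
      exact hs (h ▸ dvd_zero 2)
    · refine ⟨ringChar k, ?_, fun s hs h => ?_⟩
      · have : ringChar k ≠ 1 := CharP.ringChar_ne_one
        omega
      · rw [Finset.sum_congr rfl (fun j _ => one_pow j), sum_const, card_range, nsmul_eq_mul,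
          mul_one, ringChar.spec] at h
        exact hs h
  · have key : ∀ s, ∑ j ∈ range s, x ^ j = 0 → orderOf x ∣ s := by
      intro s hs
      apply orderOf_dvd_of_pow_eq_one
      have h1 := geom_sum_mul x s
      rw [hs, zero_mul] at h1
      exact (sub_eq_zero.1 h1.symm)
    by_cases h0 : orderOf x = 0
    · refine ⟨2, le_rfl, fun s hs h => hs ?_⟩
      have := key s h
      rw [h0, zero_dvd_iff] at this
      exact this ▸ dvd_zero 2
    · refine ⟨orderOf x, ?_, fun s hs h => hs (key s h)⟩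
      have : orderOf x ≠ 1 := fun h => hx (orderOf_eq_one_iff.1 h)
      omega

variable {L : Type u} [Field L]

theorem exists_geom_val (V : ValuationSubring L) (x : L) :
    ∃ d : ℕ, 2 ≤ d ∧ ∀ s : ℕ, 1 ≤ s → ¬ d ∣ s → (∑ j ∈ range s, x ^ j ≠ 0) ∧
      ∀ j < s, x ^ j * (∑ j ∈ range s, x ^ j)⁻¹ ∈ V := by
  by_cases hx : x ∈ V
  · obtain ⟨d, hd, h⟩ := exists_geom_ne_zero (IsLocalRing.residue V ⟨x, hx⟩)
    refine ⟨d, hd, fun s _ hs => ?_⟩
    have h1 : IsUnit (∑ j ∈ range s, (⟨x, hx⟩ : V) ^ j) := by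
      rw [← IsLocalRing.residue_ne_zero_iff_isUnit, map_sum]
      simp only [map_pow]
      exact h s hs
    obtain ⟨w, hw⟩ := h1
    have h2 : (∑ j ∈ range s, x ^ j) = ((w : V) : L) := by
      rw [hw]
      push_cast
      rfl
    have h3 : (∑ j ∈ range s, x ^ j)⁻¹ = ((w⁻¹ : Vˣ) : V) := by
      rw [h2]
      apply inv_eq_of_mul_eq_one_right
      rw [← MulMemClass.coe_mul, Units.mul_inv]
      rfl
    refine ⟨?_, fun j _ => ?_⟩
    · rw [h2]
      exact fun h => w.ne_zero (Subtype.ext h)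
    · rw [h3]
      exact V.mul_mem _ _ (pow_mem hx j) (Subtype.property _)
  · have hx0 : x ≠ 0 := by
      rintro rfl
      exact hx V.zero_mem
    have hv : 1 < V.valuation x := by
      rw [← not_le, V.valuation_le_one_iff]
      exact hx
    refine ⟨2, le_rfl, fun s hs _ => ?_⟩
    obtain ⟨s, rfl⟩ := Nat.exists_eq_add_of_le hs
    rw [add_comm]
    have hinv : V.valuation x⁻¹ < 1 := by
      rw [map_inv₀]
      exact inv_lt_one_of_one_lt₀ hv
    -- the valuation of the sum
    have hsum : V.valuation (∑ j ∈ range (s + 1), x ^ j) = V.valuation (x ^ s) := by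
      have h1 : ∑ j ∈ range (s + 1), x ^ j = x ^ s * (1 + ∑ j ∈ range s, (x⁻¹) ^ (j + 1)) := by
        rw [← Finset.sum_range_reflect, mul_add, mul_one, Finset.sum_range_succ', Finset.mul_sum,
          add_comm]
        congr 1
        refine Finset.sum_congr rfl fun j hj => ?_
        rw [mem_range] at hj
        rw [inv_pow, eq_mul_inv_iff_mul_eq₀ (pow_ne_zero _ hx0), ← pow_add]
        congr 1
        omega
      rw [h1, map_mul]
      have h2 : V.valuation (∑ j ∈ range s, (x⁻¹) ^ (j + 1)) < 1 := by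
        refine Valuation.map_sum_lt _ one_ne_zero fun j _ => ?_
        rw [map_pow]
        exact pow_lt_one₀ zero_le hinv (Nat.succ_ne_zero j)
      rw [Valuation.map_add_eq_of_lt_left _ (by rwa [map_one]), map_one, mul_one]
    have hne : (∑ j ∈ range (s + 1), x ^ j) ≠ 0 := by
      intro h
      rw [h, map_zero, eq_comm, map_eq_zero] at hsum
      exact pow_ne_zero _ hx0 hsum
    refine ⟨hne, fun j hj => ?_⟩
    rw [← V.valuation_le_one_iff, map_mul, map_inv₀, hsum, map_pow, map_pow]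
    rw [← div_eq_mul_inv]
    apply div_le_one_of_le₀ _ zero_le
    exact pow_le_pow_right₀ hv.le (by omega)

theorem exists_geom_all {ι : Type*} [Finite ι] (V : ι → ValuationSubring L) (x : L) :
    ∃ s : ℕ, 2 ≤ s ∧ (∑ j ∈ range s, x ^ j ≠ 0) ∧
      ∀ j < s, ∀ i, x ^ j * (∑ j ∈ range s, x ^ j)⁻¹ ∈ V i := by
  classical
  have := Fintype.ofFinite ι
  choose d hd h using fun i => exists_geom_val (V i) x
  obtain ⟨d0, hd0, h0⟩ := exists_geom_val (⊤ : ValuationSubring L) x
  have hpos : 1 ≤ d0 * ∏ i, d i := by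
    apply Nat.one_le_iff_ne_zero.2
    apply mul_ne_zero (by omega)
    exact Finset.prod_ne_zero_iff.2 fun i _ => by have := hd i; omega
  refine ⟨1 + d0 * ∏ i, d i, by omega, ?_, ?_⟩
  · refine (h0 _ (by omega) ?_).1
    intro h1
    have h2 : d0 ∣ 1 := (Nat.dvd_add_left (dvd_mul_right _ _)).1 h1
    have := Nat.dvd_one.1 h2
    omega
  · intro j hj i
    refine (h i _ (by omega) ?_).2 j hj
    intro h1
    have h3 : d i ∣ d0 * ∏ i, d i := (Finset.dvd_prod_of_mem d (mem_univ i)).mul_left _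
    have h2 : d i ∣ 1 := (Nat.dvd_add_left h3).1 h1
    have := Nat.dvd_one.1 h2
    have := hd i
    omega

/-- A criterion for Prüfer domains. -/
theorem isPruf_of_cond (B : Type u) [CommRing B] [IsDomain B]
    (h : ∀ (p : Ideal B) [p.IsPrime] (a b : B), a ≠ 0 → b ≠ 0 →
      ∃ c s : B, s ∉ p ∧ (a * s = b * c ∨ b * s = a * c)) : IsPruf B := by
  intro p hp
  refine @ValuationRing.mk _ _ _ ⟨?_⟩
  intro a b
  obtain ⟨⟨a, s⟩, rfl⟩ := IsLocalization.mk'_surjective p.primeCompl a
  obtain ⟨⟨b, t⟩, rfl⟩ := IsLocalization.mk'_surjective p.primeCompl b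
  dsimp only
  by_cases ha : a = 0
  · subst ha
    refine ⟨0, Or.inr ?_⟩
    rw [IsLocalization.mk'_zero, mul_zero]
  by_cases hb : b = 0
  · subst hb
    refine ⟨0, Or.inl ?_⟩
    rw [IsLocalization.mk'_zero, mul_zero]
  obtain ⟨c, r, hr, h1 | h1⟩ := h p (a * t) (b * s)
    (mul_ne_zero ha fun h0 => t.2 (h0 ▸ p.zero_mem))
    (mul_ne_zero hb fun h0 => s.2 (h0 ▸ p.zero_mem))
  · refine ⟨IsLocalization.mk' _ c (⟨r, hr⟩ : p.primeCompl), Or.inr ?_⟩
    rw [← IsLocalization.mk'_mul, IsLocalization.mk'_eq_iff_eq]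
    rw [Submonoid.coe_mul]
    congr 1
    dsimp only
    rw [show (s : B) * (b * c) = b * s * c by ring, ← h1]
    ring
  · refine ⟨IsLocalization.mk' _ c (⟨r, hr⟩ : p.primeCompl), Or.inl ?_⟩
    rw [← IsLocalization.mk'_mul, IsLocalization.mk'_eq_iff_eq]
    rw [Submonoid.coe_mul]
    congr 1
    dsimp only
    rw [show (t : B) * (a * c) = a * t * c by ring, ← h1]
    ring

section Main

variable {ι : Type*} [Finite ι] (V : ι → ValuationSubring L) (K : Subfield L) (B : Subring L)
  (hB : ∀ x, x ∈ B ↔ x ∈ K ∧ ∀ i, x ∈ V i)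

include hB

theorem exists_sum_one (x : L) (hx : x ∈ K) : ∃ n : ℕ, 1 ≤ n ∧ ∃ z : ℕ → L,
    (∀ j ≤ n, z j ∈ B) ∧ ∑ j ∈ range (n + 1), z j = 1 ∧ (∀ j, z (j + 1) = x * z j) ∧ z 0 ≠ 0 := by
  obtain ⟨s, hs, hne, h⟩ := exists_geom_all V x
  obtain ⟨n, rfl⟩ : ∃ n, s = n + 1 := ⟨s - 1, by omega⟩
  refine ⟨n, by omega, fun j => x ^ j * (∑ j ∈ range (n + 1), x ^ j)⁻¹, ?_, ?_, ?_, ?_⟩
  · intro j hj
    rw [hB]
    refine ⟨?_, h j (by omega)⟩
    exact K.mul_mem (pow_mem hx j) (K.inv_mem (sum_mem fun _ _ => pow_mem hx _))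
  · rw [← Finset.sum_mul]
    exact mul_inv_cancel₀ hne
  · intro j
    dsimp only
    rw [pow_succ]
    ring
  · dsimp only
    rw [pow_zero, one_mul]
    exact inv_ne_zero hne

theorem isPruf : IsPruf B := by
  apply isPruf_of_cond
  intro p hp a b ha hb
  have ha0 : (a : L) ≠ 0 := fun h => ha (Subtype.ext h)
  have hb0 : (b : L) ≠ 0 := fun h => hb (Subtype.ext h)
  have haK : (a : L) ∈ K := ((hB _).1 a.2).1
  have hbK : (b : L) ∈ K := ((hB _).1 b.2).1
  obtain ⟨n, hn, z, hz, hsum, hrec, -⟩ := exists_sum_one V K B hB ((a : L) / b)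
    (K.div_mem haK hbK)
  have h1 : ∃ j, ∃ hj : j ≤ n, (⟨z j, hz j hj⟩ : B) ∉ p := by
    by_contra hcon
    push Not at hcon
    apply hp.ne_top
    rw [Ideal.eq_top_iff_one]
    have h2 : (1 : B) = ∑ j : Fin (n + 1), (⟨z j, hz j (by omega)⟩ : B) := by
      apply Subtype.ext
      push_cast
      rw [← hsum, Finset.sum_range]
    rw [h2]
    exact sum_mem fun j _ => hcon j (by omega)
  obtain ⟨j, hj, hjp⟩ := h1
  rcases lt_or_eq_of_le hj with hlt | rfl
  · refine ⟨⟨z (j + 1), hz (j + 1) (by omega)⟩, ⟨z j, hz j hj⟩, hjp, Or.inl ?_⟩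
    apply Subtype.ext
    push_cast
    rw [hrec]
    field_simp
  · obtain ⟨m, rfl⟩ : ∃ m, j = m + 1 := ⟨j - 1, by omega⟩
    refine ⟨⟨z m, hz m (by omega)⟩, ⟨z (m + 1), hz (m + 1) hj⟩, hjp, Or.inr ?_⟩
    apply Subtype.ext
    push_cast
    rw [hrec]
    field_simp

theorem exists_div (x : L) (hx : x ∈ K) : ∃ a b : L, a ∈ B ∧ b ∈ B ∧ b ≠ 0 ∧ x = a / b := by
  obtain ⟨n, hn, z, hz, hsum, hrec, h0⟩ := exists_sum_one V K B hB x hx
  refine ⟨z 1, z 0, hz 1 hn, hz 0 (by omega), h0, ?_⟩
  rw [hrec 0, mul_div_assoc, div_self h0, mul_one]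

theorem finite_maximalSpectrum [Nonempty ι] : Finite (MaximalSpectrum B) := by
  classical
  have := Fintype.ofFinite ι
  have hle : ∀ i, B ≤ (V i).toSubring := fun i x hx => ((hB x).1 hx).2 i
  let q : ι → Ideal B := fun i => (IsLocalRing.maximalIdeal (V i)).comap (Subring.inclusion (hle i))
  have hq : ∀ i, (q i).IsPrime := fun i => Ideal.comap_isPrime _ _
  have key : ∀ m : MaximalSpectrum B, ∃ i, m.asIdeal = q i := by
    intro m
    have hm := m.isMaximal
    have h1 : ∃ i ∈ (univ : Finset ι), m.asIdeal ≤ q i := by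
      let i₀ := Classical.arbitrary ι
      rw [← Ideal.subset_union_prime i₀ i₀ (fun i _ _ _ => hq i)]
      intro x hx
      by_contra hcon
      simp only [Set.mem_iUnion, not_exists, coe_univ, Set.mem_univ, forall_true_left] at hcon
      have hu : ∀ i, (x : L)⁻¹ ∈ V i := by
        intro i
        have h2 : Subring.inclusion (hle i) x ∉ IsLocalRing.maximalIdeal (V i) := hcon i
        obtain ⟨w, hw⟩ : IsUnit (⟨x, hle i x.2⟩ : V i) := by
          by_contra h3
          exact h2 h3
        have h3 : (x : L) = ((w : V i) : L) := by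
          rw [hw]
        have h4 : (x : L)⁻¹ = ((w⁻¹ : (V i)ˣ) : V i) := by
          rw [h3]
          apply inv_eq_of_mul_eq_one_right
          rw [← MulMemClass.coe_mul, Units.mul_inv]
          rfl
        rw [h4]
        exact Subtype.property _
      have hx0 : (x : L) ≠ 0 := by
        intro h0
        refine hcon i₀ ?_
        have : x = 0 := Subtype.ext h0
        rw [this]
        exact (q i₀).zero_mem
      have hxB : (x : L)⁻¹ ∈ B := (hB _).2 ⟨K.inv_mem ((hB _).1 x.2).1, hu⟩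
      apply hm.ne_top
      rw [Ideal.eq_top_iff_one]
      have h5 : (1 : B) = ⟨(x : L)⁻¹, hxB⟩ * x := by
        apply Subtype.ext
        push_cast
        exact (inv_mul_cancel₀ hx0).symm
      rw [h5]
      exact m.asIdeal.mul_mem_left _ hx
    obtain ⟨i, -, hi⟩ := h1
    exact ⟨i, m.isMaximal.eq_of_le (hq i).ne_top hi⟩
  choose f hf using key
  refine Finite.of_injective f ?_
  intro m m' h
  apply MaximalSpectrum.ext
  rw [hf m, hf m', h]

end Main

section Pruf

variable {R : Type u} [CommRing R] [IsDomain R] (hR : IsPruf R) [Algebra R L] [IsFractionRing R L]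

/-- The valuation rings of the fraction field attached to a maximal ideal. -/
noncomputable def valSub (hR : IsPruf R) (m : MaximalSpectrum R) : ValuationSubring L :=
  ValuationSubring.ofSubring (Localization.subalgebra.ofField L _
    m.asIdeal.primeCompl_le_nonZeroDivisors).toSubring (by
      intro x
      have h1 : ValuationRing (Localization.subalgebra.ofField L _
        m.asIdeal.primeCompl_le_nonZeroDivisors) := hR.atPrime m.asIdeal _
      rcases ValuationRing.isInteger_or_isInteger (Localization.subalgebra.ofField L _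
        m.asIdeal.primeCompl_le_nonZeroDivisors) x with ⟨y, hy⟩ | ⟨y, hy⟩
      · left
        rw [← hy]
        exact y.2
      · right
        rw [← hy]
        exact y.2)

theorem mem_range_iff (x : L) :
    x ∈ (algebraMap R L).range ↔ ∀ m : MaximalSpectrum R, x ∈ valSub (L := L) hR m := by
  have h1 := MaximalSpectrum.iInf_localization_eq_bot R L
  have h2 : x ∈ (algebraMap R L).range ↔ x ∈ (⊥ : Subalgebra R L) := by
    rw [Algebra.mem_bot]
    rfl
  rw [h2, ← h1, Algebra.mem_iInf]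
  rfl

end Pruf

end K832.InterVal
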