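import Mathlib.RingTheory.Smooth.Locus
import Mathlib.RingTheory.Smooth.Field
import Mathlib.RingTheory.Localization.AsSubring
import Mathlib.RingTheory.FiniteType
import Mathlib.FieldTheory.Perfect

/-!
# Smooth models of fields
-/

set_option autoImplicit false
universe u v

namespace K832.SmoothModel

theorem exists_smooth_subalgebra (R : Type u) (K : Type v) [CommRing R] [IsNoetherianRing R]
    [Field K] [Algebra R K] [Algebra.FormallySmooth R K] (A₀ : Subalgebra R K)
    [Algebra.FiniteType R A₀] [IsFractionRing A₀ K] :
    ∃ A : Subalgebra R K, Algebra.FiniteType R A ∧ Algebra.Smooth R A ∧ IsFractionRing A K := by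
  have h1 : Algebra.FinitePresentation R A₀ :=
    Algebra.FinitePresentation.of_finiteType.1 inferInstance
  have h2 : IsLocalization (⊥ : Ideal A₀).primeCompl K := by
    have : (⊥ : Ideal A₀).primeCompl = nonZeroDivisors A₀ := by
      ext x
      simp [Ideal.primeCompl]
    rw [this]
    infer_instance
  have h3 : Algebra.IsSmoothAt R (⊥ : Ideal A₀) := by
    have e : K ≃ₐ[A₀] Localization.AtPrime (⊥ : Ideal A₀) :=
      IsLocalization.algEquiv (⊥ : Ideal A₀).primeCompl _ _
    exact Algebra.FormallySmooth.of_equiv (e.restrictScalars R)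
  obtain ⟨f, hf, hsm⟩ := Algebra.IsSmoothAt.exists_notMem_smooth R (⊥ : Ideal A₀)
  have hS : Submonoid.powers f ≤ nonZeroDivisors A₀ := by
    rw [Submonoid.powers_le]
    exact mem_nonZeroDivisors_of_ne_zero (by simpa using hf)
  let B := Localization.subalgebra.ofField K (Submonoid.powers f) hS
  have e : Localization.Away f ≃ₐ[A₀] B := IsLocalization.algEquiv (Submonoid.powers f) _ _
  have hB : Algebra.Smooth R B := Algebra.Smooth.of_equiv (e.restrictScalars R)
  have hB' : IsFractionRing B K := inferInstance
  exact ⟨B.restrictScalars R, inferInstanceAs (Algebra.FiniteType R B), hB, hB'⟩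

end K832.SmoothModel
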