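import Groth.Agent.ValPrufer.K832.Basic
import Groth.Agent.S0405
import Mathlib.RingTheory.Flat.TorsionFree
import Mathlib.Algebra.Module.FinitePresentation
import Mathlib.RingTheory.FinitePresentation

/-!
# Finitely presented algebras over Prüfer domains are coherent rings
-/

set_option autoImplicit false
universe u

namespace K832.CoherentRing

open K832.Basic

/-- Finite presentation descends from a ring to a quotient ring. -/
theorem fp_of_surjective {P A M : Type u} [CommRing P] [CommRing A] [Algebra P A]
    (hs : Function.Surjective (algebraMap P A)) [AddCommGroup M] [Module A M] [Module P M]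
    [IsScalarTower P A M] [Module.FinitePresentation P M] : Module.FinitePresentation A M := by
  have : Module.Finite A M := Module.Finite.of_restrictScalars_finite P A M
  obtain ⟨k, l, hl⟩ := Module.Finite.exists_fin' A M
  let g : (Fin k → P) →ₗ[P] (Fin k → A) := LinearMap.pi fun i =>
    (Algebra.linearMap P A).comp (LinearMap.proj i)
  have hg : Function.Surjective g := by
    intro y
    choose x hx using fun i => hs (y i)
    exact ⟨x, funext hx⟩
  have h1 : (LinearMap.ker ((l.restrictScalars P).comp g)).FG :=
    Module.FinitePresentation.fg_ker _ (hl.comp hg)
  have h2 : (LinearMap.ker l).restrictScalars P =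
      (LinearMap.ker ((l.restrictScalars P).comp g)).map g := by
    ext y
    constructor
    · intro hy
      obtain ⟨x, rfl⟩ := hg y
      exact ⟨x, hy, rfl⟩
    · rintro ⟨x, hx, rfl⟩
      exact hx
  have h3 : ((LinearMap.ker l).restrictScalars P).FG := by
    rw [h2]
    exact h1.map g
  exact Module.finitePresentation_of_surjective l hl (Submodule.FG.of_restrictScalars P h3)

/-- A torsion-free module over a Prüfer domain is flat. -/
theorem flat_of_torsionFree {R : Type u} [CommRing R] [IsDomain R] (hR : IsPruf R)
    (M : Type*) [AddCommGroup M] [Module R M] [Module.IsTorsionFree R M] : Module.Flat R M := by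
  rw [Module.Flat.flat_iff_torsion_eq_bot_of_valuationRing_localization_isMaximal
    (fun P _ => hR P), ← Submodule.isTorsionFree_iff_torsion_eq_bot]
  infer_instance

/-- Submodules of finite free modules over polynomial rings over a Prüfer domain. -/
theorem fp_submodule_free {R : Type u} [CommRing R] [IsDomain R] (hR : IsPruf R)
    {P : Type u} [CommRing P] [Algebra R P] [Algebra.FiniteType R P]
    {M : Type u} [AddCommGroup M] [Module P M] [Module R M] [IsScalarTower R P M]
    [Module.IsTorsionFree R M] (N : Submodule P M) (hN : N.FG) :
    Module.FinitePresentation P N := by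
  have : Module.Finite P N := Module.Finite.iff_fg.mpr hN
  have : Module.IsTorsionFree R N :=
    Function.Injective.moduleIsTorsionFree (N.subtype) N.subtype_injective (fun _ _ => rfl)
  have : Module.Flat R N := flat_of_torsionFree hR N
  exact Groth.Agent.S0405.result (R := R) (S := P) (M := N)

/-- Finitely generated submodules of finitely presented modules over a polynomial ring over a
Prüfer domain are finitely presented. -/
theorem fp_submodule_mvPolynomial {R : Type u} [CommRing R] [IsDomain R] (hR : IsPruf R)
    {n : ℕ} {M : Type u} [AddCommGroup M] [Module (MvPolynomial (Fin n) R) M]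
    [Module.FinitePresentation (MvPolynomial (Fin n) R) M]
    (N : Submodule (MvPolynomial (Fin n) R) M) (hN : N.FG) :
    Module.FinitePresentation (MvPolynomial (Fin n) R) N := by
  obtain ⟨k, l, hl⟩ := Module.Finite.exists_fin' (MvPolynomial (Fin n) R) M
  have hk : (LinearMap.ker l).FG := Module.FinitePresentation.fg_ker l hl
  let N' := N.comap l
  have hN' : N'.FG := by
    refine Submodule.fg_of_fg_map_of_fg_inf_ker l ?_ ?_
    · rw [Submodule.map_comap_eq_of_surjective hl]
      exact hN
    · rw [inf_eq_right.2 (show LinearMap.ker l ≤ N' from LinearMap.ker_le_comap l)]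
      exact hk
  have h1 : Module.FinitePresentation (MvPolynomial (Fin n) R) N' :=
    fp_submodule_free hR (P := MvPolynomial (Fin n) R) (M := Fin k → MvPolynomial (Fin n) R) N' hN'
  let l' : N' →ₗ[MvPolynomial (Fin n) R] N := l.restrict (fun x hx => hx)
  have hl' : Function.Surjective l' := by
    rintro ⟨y, hy⟩
    obtain ⟨x, rfl⟩ := hl y
    exact ⟨⟨x, hy⟩, rfl⟩
  refine Module.finitePresentation_of_surjective l' hl' ?_
  have h2 : LinearMap.ker l' = (LinearMap.ker l).comap N'.subtype := by
    ext x
    simp only [LinearMap.mem_ker, Submodule.mem_comap, Submodule.subtype_apply, l']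
    rw [← Subtype.val_inj]
    rfl
  rw [h2]
  refine Submodule.fg_of_fg_map_injective N'.subtype N'.subtype_injective ?_
  rw [Submodule.map_comap_subtype, inf_eq_right.2 (show LinearMap.ker l ≤ N' from LinearMap.ker_le_comap l)]
  exact hk

/-- Finitely generated submodules of finitely presented modules over a finitely presented algebra
over a Prüfer domain are finitely presented. -/
theorem fp_submodule {R : Type u} [CommRing R] [IsDomain R] (hR : IsPruf R)
    {A : Type u} [CommRing A] [Algebra R A] [Algebra.FinitePresentation R A]
    {M : Type u} [AddCommGroup M] [Module A M] [Module.FinitePresentation A M]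
    (N : Submodule A M) (hN : N.FG) : Module.FinitePresentation A N := by
  obtain ⟨n, f, hf, hk⟩ := (inferInstance : Algebra.FinitePresentation R A).out
  algebraize [f.toRingHom]
  let P := MvPolynomial (Fin n) R
  let : Module P M := Module.compHom M (algebraMap P A)
  have : IsScalarTower P A M := ⟨fun x y z => by
    rw [Algebra.smul_def, mul_smul]; rfl⟩
  have hA : Module.FinitePresentation P A := by
    refine Module.finitePresentation_of_surjective (Algebra.linearMap P A) hf ?_
    exact hk
  have hM : Module.FinitePresentation P M := Module.FinitePresentation.trans P M A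
  have hN' : (N.restrictScalars P).FG := by
    have : Module.Finite A N := Module.Finite.iff_fg.mpr hN
    have : Module.Finite P N := Module.Finite.trans A N
    exact Module.Finite.iff_fg.mp (this : Module.Finite P (N.restrictScalars P))
  have h := fp_submodule_mvPolynomial hR (N.restrictScalars P) hN'
  have h' : Module.FinitePresentation P N := h
  exact fp_of_surjective (P := P) hf

end K832.CoherentRing
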