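import Groth.Agent.ValPrufer.K832.EquidimPruf
import Groth.Agent.ValPrufer.K832.CoherentRing
import Mathlib.RingTheory.Ideal.GoingDown
import Mathlib.RingTheory.Ideal.Height

/-!
# The dimension function of a finite type algebra over a Prüfer domain
-/

set_option autoImplicit false
universe u

namespace K832.DimFun

open Groth.Agent.Flat2B.FlatDim Groth.Agent.CycB.TrdegAlg IsLocalRing K832.EquidimVal K832.Basic
  K832.EquidimPruf Cardinal

section

variable {R S : Type u} [CommRing R] [CommRing S] [Algebra R S]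

/-- The transcendence degree of the residue field of `P` over that of its image. -/
noncomputable def td (P : Ideal S) [P.IsPrime] : Cardinal.{u} := rtd (P.under R) P

theorem td_eq (P : Ideal S) [P.IsPrime] :
    td (R := R) P = Algebra.trdeg (R ⧸ P.under R) (S ⧸ P) := rtd_eq_trdeg _ _

theorem td_lt_aleph0 [Algebra.FiniteType R S] (P : Ideal S) [P.IsPrime] :
    td (R := R) P < ℵ₀ := by
  rw [td_eq]
  exact trdeg_lt_aleph0_of_finiteType

/-- Passing to the quotient by a smaller prime. -/
theorem rtd_quotient (P Q : Ideal S) [P.IsPrime] [Q.IsPrime] (_ : P ≤ Q)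
    (Q' : Ideal (S ⧸ P)) [Q'.IsPrime] (hQ' : Q'.comap (Ideal.Quotient.mk P) = Q)
    (q' : Ideal (R ⧸ P.under R)) [q'.IsPrime] [Q'.LiesOver q'] :
    rtd q' Q' = td (R := R) Q := by
  have hq' : q'.under R = Q.under R := by
    rw [Ideal.over_def Q' q', Ideal.under_under, ← hQ']
    rfl
  have h1 : q'.LiesOver (Q.under R) := ⟨hq'.symm⟩
  have h2 : Q'.LiesOver Q := ⟨hQ'.symm⟩
  have h3 : Q'.LiesOver (Q.under R) := Ideal.LiesOver.trans Q' Q (Q.under R)
  have e1 := rtd_add (Q.under R) q' Q'
  have e2 := rtd_add (Q.under R) Q Q'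
  rw [rtd_surjective (A := R) (B := R ⧸ P.under R) Ideal.Quotient.mk_surjective (Q.under R) q',
    zero_add] at e1
  rw [rtd_surjective Ideal.Quotient.mk_surjective Q Q', add_zero] at e2
  rw [← e1, e2]
  rfl

theorem algebraMap_quotient_injective (P : Ideal S) [P.IsPrime] :
    Function.Injective (algebraMap (R ⧸ P.under R) (S ⧸ P)) := by
  exact FaithfulSMul.algebraMap_injective _ _

end

variable {R S : Type u} [CommRing R] [IsDomain R] (hR : IsPruf R) [CommRing S] [Algebra R S]
  [Algebra.FiniteType R S]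

include hR

theorem td_le (P Q : Ideal S) [P.IsPrime] [Q.IsPrime] (h : P ≤ Q) :
    td (R := R) Q ≤ td (R := R) P := by
  let Q' := Q.map (Ideal.Quotient.mk P)
  have hQ' : Q'.IsPrime := Ideal.map_isPrime_of_surjective Ideal.Quotient.mk_surjective
    (by rwa [Ideal.mk_ker])
  have hc : Q'.comap (Ideal.Quotient.mk P) = Q := by
    rw [Ideal.comap_map_of_surjective _ Ideal.Quotient.mk_surjective, ← RingHom.ker_eq_comap_bot,
      Ideal.mk_ker, sup_eq_left.2 h]
  have h1 := exists_rtd_le (hR.quotient (P.under R)) (S := S ⧸ P)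
    (algebraMap_quotient_injective P) (Q'.under (R ⧸ P.under R)) Q'
  rw [rtd_quotient P Q h Q' hc] at h1
  rwa [td_eq (R := R) P]

omit [IsDomain R] hR in
/-- Primes with the same image. -/
theorem exists_td_eq_add (P Q : Ideal S) [P.IsPrime] [Q.IsPrime] (h : P < Q)
    (hpq : P.under R = Q.under R) :
    ∃ n : ℕ, 1 ≤ n ∧ td (R := R) P = td (R := R) Q + n ∧
      ((⟨P, ‹_›⟩ : PrimeSpectrum S) ⋖ ⟨Q, ‹_›⟩ → n = 1) := by
  let Q' := Q.map (Ideal.Quotient.mk P)
  have hQ' : Q'.IsPrime := Ideal.map_isPrime_of_surjective Ideal.Quotient.mk_surjective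
    (by rw [Ideal.mk_ker]; exact h.le)
  have hc : Q'.comap (Ideal.Quotient.mk P) = Q := by
    rw [Ideal.comap_map_of_surjective _ Ideal.Quotient.mk_surjective, ← RingHom.ker_eq_comap_bot,
      Ideal.mk_ker, sup_eq_left.2 h.le]
  have hbot : Q'.under (R ⧸ P.under R) = ⊥ := by
    rw [eq_bot_iff]
    intro x hx
    obtain ⟨x, rfl⟩ := Ideal.Quotient.mk_surjective x
    have h1 : algebraMap R S x ∈ Q := by
      rw [← hc]
      exact hx
    have h2 : x ∈ P.under R := by
      rw [hpq]
      exact h1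
    rw [Ideal.mem_bot, Ideal.Quotient.eq_zero_iff_mem]
    exact h2
  obtain ⟨n, d, hn, hd, hnd⟩ := Groth.Agent.CalgA.DimFormula.exists_height_add_trdeg
    (D := R ⧸ P.under R) (B := S ⧸ P) Q' hbot
  have hL : Q'.LiesOver (⊥ : Ideal (R ⧸ P.under R)) := ⟨hbot.symm⟩
  have hd' : td (R := R) Q = d := by
    rw [← rtd_quotient P Q h.le Q' hc (⊥ : Ideal (R ⧸ P.under R)), rtd_eq_trdeg, ← hd]
    let _ : Algebra (R ⧸ P.under R) ((R ⧸ P.under R) ⧸ (⊥ : Ideal (R ⧸ P.under R))) :=
      Ideal.Quotient.algebra _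
    have : FaithfulSMul (R ⧸ P.under R) ((R ⧸ P.under R) ⧸ (⊥ : Ideal (R ⧸ P.under R))) := by
      rw [faithfulSMul_iff_algebraMap_injective]
      exact (RingHom.injective_iff_ker_eq_bot _).2 (Ideal.mk_ker)
    have h1 := trdeg_add_eq (R ⧸ P.under R) ((R ⧸ P.under R) ⧸ (⊥ : Ideal (R ⧸ P.under R)))
      (A := (S ⧸ P) ⧸ Q')
    have halg : Algebra.IsAlgebraic (R ⧸ P.under R)
        ((R ⧸ P.under R) ⧸ (⊥ : Ideal (R ⧸ P.under R))) := ⟨fun x => by
      obtain ⟨x, rfl⟩ := Ideal.Quotient.mk_surjective x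
      exact isAlgebraic_algebraMap x⟩
    rw [trdeg_eq_zero (R := R ⧸ P.under R), zero_add] at h1
    exact h1
  refine ⟨n, ?_, ?_, ?_⟩
  · rw [Nat.one_le_iff_ne_zero]
    rintro rfl
    have h1 : Q' = ⊥ := Ideal.height_eq_zero_iff_eq_bot.1 (by rw [hn]; rfl)
    apply h.not_ge
    rw [← hc, h1, ← RingHom.ker_eq_comap_bot, Ideal.mk_ker]
  · rw [hd', td_eq (R := R) P, hnd]
    push_cast
    rw [add_comm]
  · intro hcov
    have h0 : n ≠ 0 := by
      rintro rfl
      have h1 : Q' = ⊥ := Ideal.height_eq_zero_iff_eq_bot.1 (by rw [hn]; rfl)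
      apply h.not_ge
      rw [← hc, h1, ← RingHom.ker_eq_comap_bot, Ideal.mk_ker]
    have h1 : Q'.height ≤ 1 := by
      rw [show (1 : ℕ∞) = ((1 : ℕ) : ℕ∞) from rfl, Ideal.height_le_iff]
      intro T hT hTQ
      have h2 : T = ⊥ := by
        by_contra hne
        have h3 : P < T.comap (Ideal.Quotient.mk P) := by
          refine lt_of_le_of_ne ?_ ?_
          · intro x hx
            rw [Ideal.mem_comap, Ideal.Quotient.eq_zero_iff_mem.2 hx]
            exact T.zero_mem
          · intro h4
            apply hne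
            rw [← Ideal.map_comap_of_surjective _ Ideal.Quotient.mk_surjective T, ← h4,
              Ideal.map_quotient_self]
        have h4 : T.comap (Ideal.Quotient.mk P) < Q := by
          refine lt_of_le_of_ne ?_ ?_
          · rw [← hc]
            exact Ideal.comap_mono hTQ.le
          · intro h5
            apply hTQ.ne
            rw [← Ideal.map_comap_of_surjective _ Ideal.Quotient.mk_surjective T, h5]
        exact hcov.2 (c := ⟨T.comap (Ideal.Quotient.mk P), inferInstance⟩) h3 h4
      rw [h2, Ideal.height_bot]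
      exact_mod_cast one_pos
    rw [hn] at h1
    have : n ≤ 1 := by exact_mod_cast h1
    omega

/-- Adjacent primes with different images. -/
theorem td_eq_of_covBy (P Q : Ideal S) [P.IsPrime] [Q.IsPrime]
    (hpq : P.under R < Q.under R) (hcov : (⟨P, ‹_›⟩ : PrimeSpectrum S) ⋖ ⟨Q, ‹_›⟩) :
    td (R := R) Q = td (R := R) P ∧
      ∀ r : Ideal R, r.IsPrime → P.under R < r → r ≤ Q.under R → r = Q.under R := by
  have h : P < Q := hcov.1
  let Q' := Q.map (Ideal.Quotient.mk P)
  have hQ' : Q'.IsPrime := Ideal.map_isPrime_of_surjective Ideal.Quotient.mk_surjective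
    (by rw [Ideal.mk_ker]; exact h.le)
  have hc : Q'.comap (Ideal.Quotient.mk P) = Q := by
    rw [Ideal.comap_map_of_surjective _ Ideal.Quotient.mk_surjective, ← RingHom.ker_eq_comap_bot,
      Ideal.mk_ker, sup_eq_left.2 h.le]
  -- primes of `S/P` below `Q'`
  have key : ∀ T : Ideal (S ⧸ P), T.IsPrime → T ≠ ⊥ → T ≤ Q' → T = Q' := by
    intro T hT hne hTQ
    by_contra hTQ'
    have h3 : P < T.comap (Ideal.Quotient.mk P) := by
      refine lt_of_le_of_ne ?_ ?_
      · intro x hx
        rw [Ideal.mem_comap, Ideal.Quotient.eq_zero_iff_mem.2 hx]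
        exact T.zero_mem
      · intro h4
        apply hne
        rw [← Ideal.map_comap_of_surjective _ Ideal.Quotient.mk_surjective T, ← h4,
          Ideal.map_quotient_self]
    have h4 : T.comap (Ideal.Quotient.mk P) < Q := by
      refine lt_of_le_of_ne ?_ ?_
      · rw [← hc]
        exact Ideal.comap_mono hTQ
      · intro h5
        apply hTQ'
        rw [← Ideal.map_comap_of_surjective _ Ideal.Quotient.mk_surjective T, h5]
    exact hcov.2 (c := ⟨T.comap (Ideal.Quotient.mk P), inferInstance⟩) h3 h4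
  let R' := R ⧸ P.under R
  let S' := S ⧸ P
  have hinj : Function.Injective (algebraMap R' S') := algebraMap_quotient_injective P
  let q' : Ideal R' := Q'.under R'
  have hq'R : q'.comap (Ideal.Quotient.mk (P.under R)) = Q.under R := by
    change (Q'.under R').under R = _
    rw [Ideal.under_under]
    change (Q'.comap (Ideal.Quotient.mk P)).under R = _
    rw [hc]
  have hq'0 : q' ≠ ⊥ := by
    intro h0
    apply hpq.ne
    rw [← hq'R, h0, ← RingHom.ker_eq_comap_bot, Ideal.mk_ker]
  constructor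
  · obtain ⟨r, hr1, hr2⟩ := rtd_eq_of_minimal (hR.quotient (P.under R)) (S := S') hinj q' Q'
      (fun T hT hqT hTQ => key T hT (by
        rintro rfl
        apply hq'0
        rw [eq_bot_iff]
        intro x hx
        have h1 : algebraMap R' S' x ∈ (⊥ : Ideal S') := hqT (Ideal.mem_map_of_mem _ hx)
        rw [Ideal.mem_bot, map_eq_zero_iff _ hinj] at h1
        exact h1) hTQ)
    rw [rtd_quotient P Q h.le Q' hc] at hr1
    rw [hr1, td_eq (R := R) P]
    exact hr2.symm
  · intro r hr hpr hrq
    let r' : Ideal R' := r.map (Ideal.Quotient.mk (P.under R))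
    have hr' : r'.IsPrime := Ideal.map_isPrime_of_surjective Ideal.Quotient.mk_surjective
      (by rw [Ideal.mk_ker]; exact hpr.le)
    have hrc : r'.comap (Ideal.Quotient.mk (P.under R)) = r := by
      rw [Ideal.comap_map_of_surjective _ Ideal.Quotient.mk_surjective,
        ← RingHom.ker_eq_comap_bot, Ideal.mk_ker, sup_eq_left.2 hpr.le]
    have hr'q' : r' ≤ q' := by
      rw [← Ideal.map_comap_of_surjective _ Ideal.Quotient.mk_surjective q', hq'R]
      exact Ideal.map_mono hrq
    have : FaithfulSMul R' S' := (faithfulSMul_iff_algebraMap_injective R' S').2 hinj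
    have : Module.IsTorsionFree R' S' := inferInstance
    have hflat : Module.Flat R' S' :=
      K832.CoherentRing.flat_of_torsionFree (hR.quotient (P.under R)) S'
    have hgd : Algebra.HasGoingDown R' S' := inferInstance
    obtain ⟨T, hTQ, hT, hTr⟩ := Ideal.exists_ideal_le_liesOver_of_le (p := r') (q := q') Q' hr'q'
    have hT0 : T ≠ ⊥ := by
      rintro rfl
      apply hpr.ne
      have h1 : r' = ⊥ := by
        rw [Ideal.over_def (⊥ : Ideal S') r', eq_bot_iff]
        intro x hx
        have h2 : algebraMap R' S' x ∈ (⊥ : Ideal S') := hx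
        rw [Ideal.mem_bot, map_eq_zero_iff _ hinj] at h2
        exact h2
      rw [← hrc, h1, ← RingHom.ker_eq_comap_bot, Ideal.mk_ker]
    have h2 := key T hT hT0 hTQ
    have h3 : r' = q' := by
      rw [Ideal.over_def T r', h2]
    rw [← hrc, h3, hq'R]

end K832.DimFun
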