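import Groth.Agent.ValPrufer.K832.Basic
import Mathlib.RingTheory.Ideal.Height
import Mathlib.RingTheory.Spectrum.Prime.Topology
import Mathlib.RingTheory.Spectrum.Maximal.Basic

/-!
# Semilocal Prüfer domains of finite Krull dimension have finitely many primes
-/

set_option autoImplicit false
universe u

namespace K832.FiniteSpec

open K832.Basic

theorem finiteHeight_of_dim {R : Type u} [CommRing R] [Nontrivial R] (hdim : ringKrullDim R < ⊤) :
    FiniteRingKrullDim R := by
  rw [finiteRingKrullDim_iff_ne_bot_and_top]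
  refine ⟨?_, hdim.ne⟩
  have := ringKrullDim_nonneg_of_nontrivial (R := R)
  intro h
  rw [h] at this
  exact absurd this (by simp)

theorem finite_primeSpectrum {R : Type u} [CommRing R] [IsDomain R] (hR : IsPruf R)
    (hfin : Finite (MaximalSpectrum R)) (hdim : ringKrullDim R < ⊤) :
    Finite (PrimeSpectrum R) := by
  classical
  have := finiteHeight_of_dim hdim
  obtain ⟨n, hn⟩ : ∃ n : ℕ, ringKrullDim R ≤ n := by
    refine ⟨(ringKrullDim R).unbot ringKrullDim_ne_bot |>.toNat, ?_⟩
    conv_lhs => rw [← WithBot.coe_unbot (ringKrullDim R) ringKrullDim_ne_bot]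
    have h : (ringKrullDim R).unbot ringKrullDim_ne_bot ≠ ⊤ := by
      intro h
      apply hdim.ne
      rw [← WithBot.coe_unbot (ringKrullDim R) ringKrullDim_ne_bot, h]
      rfl
    rw [← ENat.natCast_toNat h]
    rfl
  have hht : ∀ p : PrimeSpectrum R, p.asIdeal.height ≤ n := by
    intro p
    have := (Ideal.height_le_ringKrullDim_of_isPrime (I := p.asIdeal)).trans hn
    exact_mod_cast this
  choose M hM1 hM2 using fun p : PrimeSpectrum R => Ideal.exists_le_maximal p.asIdeal p.2.ne_top
  let f : PrimeSpectrum R → MaximalSpectrum R × Fin (n + 1) := fun p =>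
    (⟨M p, hM1 p⟩, ⟨p.asIdeal.height.toNat, by
      have := ENat.toNat_le_of_le_natCast (hht p)
      lia⟩)
  refine Finite.of_injective f ?_
  intro p q hpq
  simp only [f, Prod.mk.injEq, MaximalSpectrum.mk.injEq, Fin.mk.injEq] at hpq
  obtain ⟨h1, h2⟩ := hpq
  have hp : p.asIdeal.height ≠ ⊤ := ne_top_of_le_ne_top (ENat.natCast_ne_top n) (hht p)
  have hq : q.asIdeal.height ≠ ⊤ := ne_top_of_le_ne_top (ENat.natCast_ne_top n) (hht q)
  have h3 : p.asIdeal.height = q.asIdeal.height := by
    rw [← ENat.natCast_toNat hp, ← ENat.natCast_toNat hq, h2]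
  have hle : p.asIdeal ≤ q.asIdeal ∨ q.asIdeal ≤ p.asIdeal :=
    have := (hM1 p).isPrime
    hR.le_total (M p) (hM2 p) (by rw [h1]; exact hM2 q)
  apply PrimeSpectrum.ext
  rcases hle with hle | hle
  · by_contra hne
    exact (Ideal.height_strict_mono_of_isPrime (lt_of_le_of_ne hle hne)).ne h3
  · by_contra hne
    exact (Ideal.height_strict_mono_of_isPrime (lt_of_le_of_ne hle (Ne.symm hne))).ne h3.symm

/-- In a ring with finite spectrum, for any maximal ideal there is an element contained in
precisely that prime. -/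
theorem exists_mem_iff_eq {R : Type u} [CommRing R] [Finite (PrimeSpectrum R)]
    (m : Ideal R) [hm : m.IsMaximal] : ∃ a : R, ∀ (p : Ideal R), p.IsPrime → (a ∈ p ↔ p = m) := by
  classical
  have := Fintype.ofFinite (PrimeSpectrum R)
  have key : ¬ ((m : Set R) ⊆ ⋃ p ∈ ((Finset.univ.filter
      (fun p : PrimeSpectrum R => p.asIdeal ≠ m) : Finset (PrimeSpectrum R)) :
      Set (PrimeSpectrum R)), (p.asIdeal : Set R)) := by
    rw [Ideal.subset_union_prime (f := fun p : PrimeSpectrum R => p.asIdeal)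
      ⟨m, hm.isPrime⟩ ⟨m, hm.isPrime⟩ (fun i _ _ _ => i.2)]
    rintro ⟨p, hp, hle⟩
    rw [Finset.mem_filter] at hp
    exact hp.2 (hm.eq_of_le p.2.ne_top hle).symm
  rw [Set.not_subset] at key
  obtain ⟨a, ha, ha'⟩ := key
  refine ⟨a, fun p hp => ⟨fun h => ?_, fun h => h ▸ ha⟩⟩
  by_contra hne
  apply ha'
  rw [Set.mem_iUnion₂]
  exact ⟨⟨p, hp⟩, by simpa using hne, h⟩

/-- In a ring with finite spectrum, for any prime `m` there is an element outside `m` contained in
all primes not contained in `m`. -/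
theorem exists_notMem_forall_mem {R : Type u} [CommRing R] [Finite (PrimeSpectrum R)]
    (m : Ideal R) [hm : m.IsPrime] :
    ∃ b : R, b ∉ m ∧ ∀ (p : Ideal R), p.IsPrime → ¬ p ≤ m → b ∈ p := by
  classical
  have := Fintype.ofFinite (PrimeSpectrum R)
  have h : ∀ p : PrimeSpectrum R, ∃ b : R, b ∉ m ∧ (¬ p.asIdeal ≤ m → b ∈ p.asIdeal) := by
    intro p
    by_cases hp : p.asIdeal ≤ m
    · exact ⟨1, fun h1 => hm.ne_top ((Ideal.eq_top_iff_one _).2 h1), fun h => absurd hp h⟩
    · obtain ⟨b, hb, hb'⟩ := SetLike.not_le_iff_exists.1 hp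
      exact ⟨b, hb', fun _ => hb⟩
  choose b hb1 hb2 using h
  refine ⟨∏ p, b p, ?_, ?_⟩
  · rw [hm.prod_mem_iff]
    rintro ⟨p, -, hp⟩
    exact hb1 p hp
  · intro p hp hle
    exact Ideal.mem_of_dvd _ (Finset.dvd_prod_of_mem b (Finset.mem_univ ⟨p, hp⟩)) (hb2 ⟨p, hp⟩ hle)

/-- In a ring with finite spectrum each local ring is a basic localization. -/
theorem exists_isLocalization_atPrime_away {R : Type u} [CommRing R] [Finite (PrimeSpectrum R)]
    (m : Ideal R) [hm : m.IsPrime] :
    ∃ b : R, b ∉ m ∧ IsLocalization.AtPrime (Localization.Away b) m := by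
  obtain ⟨b, hb, hb'⟩ := exists_notMem_forall_mem m
  refine ⟨b, hb, ?_⟩
  have hle : Submonoid.powers b ≤ m.primeCompl := by
    rw [Submonoid.powers_le]
    exact hb
  refine IsLocalization.of_le (M := Submonoid.powers b) (S := Localization.Away b) m.primeCompl
    hle ?_
  intro r hr
  by_contra hu
  obtain ⟨q, hq, hrq⟩ := exists_max_ideal_of_mem_nonunits (show _ ∈ nonunits _ from hu)
  have hq' := hq.isPrime
  have h1 : (q.under R).IsPrime := inferInstance
  have h2 : b ∉ q.under R := by
    intro h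
    have : IsUnit (algebraMap R (Localization.Away b) b) :=
      IsLocalization.Away.algebraMap_isUnit b
    exact hq'.ne_top (Ideal.eq_top_of_isUnit_mem _ h this)
  have h3 : q.under R ≤ m := by
    by_contra h
    exact h2 (hb' _ h1 h)
  exact hr (h3 hrq)

end K832.FiniteSpec
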