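import Groth.Agent.ValPrufer.K832.DimFun
import Groth.Agent.ValPrufer.K832.FiniteSpec
import Groth.Prelude.Def_Found

/-!
# The dimension function, catenarity, finiteness of dimension
-/

set_option autoImplicit false
universe u

namespace K832.DimFun2

open K832.Basic K832.DimFun Cardinal

/-- The dimension function. -/
noncomputable def δ {R S : Type u} [CommRing R] [CommRing S] [Algebra R S]
    (x : PrimeSpectrum S) : ℤ :=
  (Cardinal.toNat (Algebra.trdeg (R ⧸ x.asIdeal.under R) (S ⧸ x.asIdeal)) : ℤ) -
    ((x.asIdeal.under R).height.toNat : ℤ)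

theorem δ_eq {R S : Type u} [CommRing R] [CommRing S] [Algebra R S] (x : PrimeSpectrum S) :
    δ (R := R) x = (Cardinal.toNat (td (R := R) x.asIdeal) : ℤ) -
      ((x.asIdeal.under R).height.toNat : ℤ) := by
  rw [td_eq]
  rfl

variable {R S : Type u} [CommRing R] [IsDomain R] (hR : IsPruf R) (hdim : ringKrullDim R < ⊤)
  [CommRing S] [Algebra R S] [Algebra.FiniteType R S]

omit [IsDomain R] in
include hdim in
theorem height_ne_top [Nontrivial R] (p : Ideal R) [p.IsPrime] : p.height ≠ ⊤ := by
  have := K832.FiniteSpec.finiteHeight_of_dim hdim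
  exact Ideal.height_ne_top_of_isPrime

include hR hdim

theorem δ_lt {x y : PrimeSpectrum S} (h : x < y) : δ (R := R) y < δ (R := R) x := by
  rw [δ_eq, δ_eq]
  have hle : x.asIdeal.under R ≤ y.asIdeal.under R := Ideal.comap_mono h.le
  rcases hle.eq_or_lt with heq | hlt
  · obtain ⟨n, hn, h1, -⟩ := exists_td_eq_add (R := R) x.asIdeal y.asIdeal h heq
    rw [h1, heq, Cardinal.toNat_add (td_lt_aleph0 _) (Cardinal.natCast_lt_aleph0),
      Cardinal.toNat_natCast]
    push_cast
    omega
  · have h1 := td_le hR x.asIdeal y.asIdeal h.le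
    have h2 : Cardinal.toNat (td (R := R) y.asIdeal) ≤ Cardinal.toNat (td (R := R) x.asIdeal) :=
      Cardinal.toNat_le_toNat h1 (td_lt_aleph0 _)
    have := K832.FiniteSpec.finiteHeight_of_dim hdim
    have h3 : (x.asIdeal.under R).height < (y.asIdeal.under R).height :=
      Ideal.height_strict_mono_of_isPrime hlt
    obtain ⟨a, ha⟩ : ∃ n : ℕ, (x.asIdeal.under R).height = n :=
      ⟨_, (ENat.natCast_toNat (height_ne_top hdim _)).symm⟩
    obtain ⟨b, hb⟩ : ∃ n : ℕ, (y.asIdeal.under R).height = n :=
      ⟨_, (ENat.natCast_toNat (height_ne_top hdim _)).symm⟩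
    rw [ha, hb] at h3
    rw [ha, hb, ENat.toNat_natCast, ENat.toNat_natCast]
    have h4 : a < b := by exact_mod_cast h3
    omega

theorem δ_covBy {x y : PrimeSpectrum S} (h : x ⋖ y) : δ (R := R) x = δ (R := R) y + 1 := by
  rw [δ_eq, δ_eq]
  have hle : x.asIdeal.under R ≤ y.asIdeal.under R := Ideal.comap_mono h.1.le
  rcases hle.eq_or_lt with heq | hlt
  · obtain ⟨n, hn, h1, h2⟩ := exists_td_eq_add (R := R) x.asIdeal y.asIdeal h.1 heq
    rw [h1, heq, Cardinal.toNat_add (td_lt_aleph0 _) (Cardinal.natCast_lt_aleph0),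
      Cardinal.toNat_natCast, h2 h]
    push_cast
    omega
  · obtain ⟨h1, h2⟩ := td_eq_of_covBy hR x.asIdeal y.asIdeal hlt h
    have := K832.FiniteSpec.finiteHeight_of_dim hdim
    have h3 : (x.asIdeal.under R).height < (y.asIdeal.under R).height :=
      Ideal.height_strict_mono_of_isPrime hlt
    obtain ⟨n, hn⟩ : ∃ n : ℕ, (x.asIdeal.under R).height = n :=
      ⟨_, (ENat.natCast_toNat (height_ne_top hdim _)).symm⟩
    have h4 : (y.asIdeal.under R).height ≤ (n + 1 : ℕ) := by
      rw [Ideal.height_le_iff]
      intro r hr hry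
      have h5 : r ≤ x.asIdeal.under R := by
        rcases hR.le_total (y.asIdeal.under R) hry.le hle with h6 | h6
        · exact h6
        · by_contra h7
          exact hry.ne (h2 r hr (lt_of_le_of_ne h6 (fun h8 => h7 h8.ge)) hry.le)
      have h6 := Ideal.height_mono h5
      rw [hn] at h6
      refine h6.trans_lt ?_
      exact_mod_cast Nat.lt_succ_self n
    rw [hn] at h3
    have h5 : (y.asIdeal.under R).height = (n + 1 : ℕ) := by
      refine le_antisymm h4 ?_
      have := Order.add_one_le_of_lt h3
      exact_mod_cast this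
    rw [h1, hn, h5, ENat.toNat_natCast, ENat.toNat_natCast]
    push_cast
    omega

theorem covBy_iff {x y : PrimeSpectrum S} (h : x < y) :
    x ⋖ y ↔ δ (R := R) x = δ (R := R) y + 1 := by
  refine ⟨δ_covBy hR hdim, fun h1 => ⟨h, fun z hxz hzy => ?_⟩⟩
  have h2 := δ_lt hR hdim hxz
  have h3 := δ_lt hR hdim hzy
  omega

omit [IsDomain R] hR hdim in
/-- The transcendence degrees are bounded. -/
theorem exists_td_bound : ∃ N : ℕ, ∀ x : PrimeSpectrum S, Cardinal.toNat (td (R := R) x.asIdeal) ≤ N := by
  obtain ⟨s, hs⟩ := (inferInstance : Algebra.FiniteType R S).out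
  refine ⟨s.card, fun x => ?_⟩
  have h : td (R := R) x.asIdeal ≤ s.card := by
    rw [td_eq]
    let t : Set (S ⧸ x.asIdeal) := Ideal.Quotient.mk x.asIdeal '' (s : Set S)
    have ht : Algebra.adjoin (R ⧸ x.asIdeal.under R) t = ⊤ := by
      rw [eq_top_iff]
      intro z _
      obtain ⟨z, rfl⟩ := Ideal.Quotient.mk_surjective z
      have hz : z ∈ Algebra.adjoin R (s : Set S) := by rw [hs]; trivial
      induction hz using Algebra.adjoin_induction with
      | mem z hz => exact Algebra.subset_adjoin ⟨z, hz, rfl⟩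
      | algebraMap r =>
        exact Subalgebra.algebraMap_mem _ (Ideal.Quotient.mk (x.asIdeal.under R) r)
      | add a b _ _ ha hb => rw [map_add]; exact add_mem (ha trivial) (hb trivial)
      | mul a b _ _ ha hb => rw [map_mul]; exact mul_mem (ha trivial) (hb trivial)
    have halg : Algebra.IsAlgebraic (Algebra.adjoin (R ⧸ x.asIdeal.under R) t) (S ⧸ x.asIdeal) := by
      constructor
      intro z
      have : z ∈ Algebra.adjoin (R ⧸ x.asIdeal.under R) t := by rw [ht]; trivial
      exact isAlgebraic_algebraMap (⟨z, this⟩ : Algebra.adjoin (R ⧸ x.asIdeal.under R) t)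
    have h1 : Algebra.trdeg (R ⧸ x.asIdeal.under R) (S ⧸ x.asIdeal) ≤ #t :=
      Algebra.IsAlgebraic.trdeg_le_cardinalMk (R ⧸ x.asIdeal.under R) t
    refine h1.trans ?_
    refine (Cardinal.mk_image_le).trans ?_
    simp
  have := Cardinal.toNat_le_toNat h Cardinal.natCast_lt_aleph0
  simpa using this

end K832.DimFun2

namespace K832.DimFun2

/-- A chain is at most as long as the drop of the dimension function. -/
theorem length_le {α : Type*} [PartialOrder α] (d : α → ℤ) (hd : ∀ {x y : α}, x < y → d y < d x)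
    (s : LTSeries α) : (s.length : ℤ) ≤ d s.head - d s.last := by
  have key : ∀ i : Fin (s.length + 1), (i : ℤ) ≤ d s.head - d (s i) := by
    intro i
    induction i using Fin.induction with
    | zero => simp [RelSeries.head]
    | succ i ih =>
      have := hd (s.step i)
      simp only [Fin.val_castSucc, Fin.val_succ] at ih ⊢
      push_cast
      omega
  have := key (Fin.last _)
  simpa [RelSeries.last] using this

theorem length_eq {α : Type*} [PartialOrder α] (d : α → ℤ) (hd : ∀ {x y : α}, x ⋖ y → d x = d y + 1)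
    (s : LTSeries α) (hs : ∀ i : Fin s.length, s (Fin.castSucc i) ⋖ s (Fin.succ i)) :
    (s.length : ℤ) = d s.head - d s.last := by
  have key : ∀ i : Fin (s.length + 1), (i : ℤ) = d s.head - d (s i) := by
    intro i
    induction i using Fin.induction with
    | zero => simp [RelSeries.head]
    | succ i ih =>
      have := hd (hs i)
      simp only [Fin.val_castSucc, Fin.val_succ] at ih ⊢
      push_cast
      omega
  have := key (Fin.last _)
  simpa [RelSeries.last] using this

theorem isCatenary_of_dimFun {B : Type u} [CommRing B] (d : PrimeSpectrum B → ℤ)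
    (h1 : ∀ {x y : PrimeSpectrum B}, x < y → d y < d x)
    (h2 : ∀ {x y : PrimeSpectrum B}, x ⋖ y → d x = d y + 1) : CAlg.IsCatenary B := by
  constructor
  · intro p q _
    refine ⟨(d p - d q).toNat, fun s hs hs' => ?_⟩
    have := length_le d h1 s
    rw [hs, hs'] at this
    omega
  · intro s t hh hl hs ht
    have e1 := length_eq d h2 s hs
    have e2 := length_eq d h2 t ht
    rw [hh, hl] at e1
    omega

end K832.DimFun2
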