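import Groth.Agent.S0010
import Groth.Agent.CycB.P1Sep
import Groth.Agent.PerfB.ProjSpaceCover
import Mathlib.AlgebraicGeometry.Morphisms.ClosedImmersion
import Mathlib.AlgebraicGeometry.Morphisms.Finite

/-!
# Vanishing of cohomology above the number of standard affine charts
-/

set_option autoImplicit false
universe u
open CategoryTheory AlgebraicGeometry

namespace K832.ProjVanish

/-- A closed subscheme of projective space over a ring is separated. -/
theorem isSeparated_of_closedImmersion {R : Type u} [CommRing R] {n : ℕ} {X : Scheme.{u}}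
    (ι : X ⟶ CohB1.ProjSpace n R) [IsClosedImmersion ι] :
    X.IsSeparated := by
  have := Groth.Agent.CycB.P1Sep.isSeparated_toSpec n R
  have h : IsSeparated (ι ≫ CohB1.ProjSpace.toSpec n R) := inferInstance
  rw [Scheme.isSeparated_iff, ← Limits.terminal.comp_from (ι ≫ CohB1.ProjSpace.toSpec n R)]
  infer_instance

theorem subsingleton_HH {R : Type u} [CommRing R] {n : ℕ} {X : Scheme.{u}}
    (ι : X ⟶ CohB1.ProjSpace n R) [IsClosedImmersion ι] (F : X.Modules) [Coh.IsQCoh F]
    (q : ℕ) (hq : n + 1 ≤ q) : Subsingleton (Coh.HH X F q) := by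
  have hsep := isSeparated_of_closedImmersion ι
  let ι' : X ⟶ Proj (CohB1.polyGrading n R) := ι
  have hι' : IsClosedImmersion ι' := ‹_›
  refine Groth.Agent.S0010.result X (n + 1)
    (fun i => ι' ⁻¹ᵁ Proj.basicOpen (CohB1.polyGrading n R) (MvPolynomial.X i)) ?_ ?_ ?_ F q hq
  · intro i
    exact (Proj.isAffineOpen_basicOpen (CohB1.polyGrading n R) (MvPolynomial.X i)
      (m := 1) (MvPolynomial.isHomogeneous_X _ _) one_pos).preimage ι'
  · have h := Groth.Agent.PerfB.ProjSpaceCover.iSup_basicOpen_X n R
    have h2 := congrArg (fun U => ι' ⁻¹ᵁ U) h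
    simp only [Scheme.Hom.preimage_iSup, Scheme.Hom.preimage_top] at h2
    exact h2
  · intro V W hV hW
    exact hV.inf hW

end K832.ProjVanish
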