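import Groth.Agent.ValPrufer.K832.KerFP
import Groth.Agent.ValPrufer.K832.ProjVanish
import Groth.Agent.Sga67.SerreVB2
import Groth.Agent.CohqB.FinAmple
import Groth.Agent.Localalg.LichtAsm
import Groth.Agent.S1178
import Groth.Agent.Models2.FPCoh
import Groth.Agent.Sga5.ProjSmooth
import Groth.Agent.Flat2D.LfpComp

/-!
# Serre vanishing for finitely presented modules on projective space over a Prüfer domain
-/

set_option autoImplicit false
universe u

open CategoryTheory CategoryTheory.Limits AlgebraicGeometry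

namespace K832.SerreFP

open K832.Basic K832.KerFP Groth.Agent Groth.Agent.Sga67.SerreVB Groth.Agent.Sga67.SerreVB2
  Groth.Agent.FormalB.HHLin Groth.Agent.CohqA.UnifVan

attribute [local instance] Abelian.hasFiniteBiproducts

theorem isCoh_of_isFP {X : Scheme.{u}} {F : X.Modules} (hF : CohB1.IsFP F) : Coh.IsCoh F :=
  ⟨PerfC.FPSections.isQCoh_of_isFP hF, Models2.FPCoh.isFT_of_isFP hF⟩

variable (r : ℕ) (R : Type u) [CommRing R] [IsDomain R] (hR : IsPruf R)

omit [IsDomain R] in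
theorem lfp_toSpec : LocallyOfFinitePresentation (CohB1.ProjSpace.toSpec r R) := by
  have h1 := Sga5.ProjSmooth.smooth_toSpec (n := r) (R := R)
  have h2 : Smooth (CohB1.ProjSpace.toSpec r R) := SmoothOfRelativeDimension.smooth r _
  infer_instance

include hR in
theorem exists_ses {F : (CohB1.ProjSpace r R).Modules} (hF : CohB1.IsFP F) :
    ∃ (a : ℕ) (N : ℕ) (p : sumO r R N (-(a : ℤ)) ⟶ F), Epi p ∧ CohB1.IsFP (kernel p) := by
  obtain ⟨a, h⟩ := exists_epi_sum r R (isCoh_of_isFP hF)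
  obtain ⟨N, p, hp⟩ := h a le_rfl
  have := lfp_toSpec r R
  exact ⟨a, N, p, hp, isFP_kernel hR (CohB1.ProjSpace.toSpec r R)
    (Desc.FinLocFreeSections.isFP_of_isFinLocFree (isFinLocFree_sumO r R N _)) hF p⟩

include hR in
/-- Vanishing of higher cohomology, descending induction. -/
theorem exists_vanishing_aux (k : ℕ) : ∀ (q : ℕ), 1 ≤ q → r + 1 ≤ q + k →
    ∀ F : (CohB1.ProjSpace r R).Modules, CohB1.IsFP F → ∃ n₀ : ℕ, ∀ n : ℤ, (n₀ : ℤ) ≤ n →
      ∀ i, q ≤ i → Subsingleton (Coh.HH (CohB1.ProjSpace r R) ((tw r R n).obj F) i) := by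
  induction k with
  | zero =>
    intro q _ hqk F hF
    refine ⟨0, fun n _ i hi => ?_⟩
    have : Coh.IsQCoh ((tw r R n).obj F) :=
      (isCoh_tw r R (isCoh_of_isFP hF) n).1
    exact S0022.result r R _ i (by omega)
  | succ k ih =>
    intro q hq hqk F hF
    obtain ⟨a, N, p, hp, hK⟩ := exists_ses r R hR hF
    obtain ⟨n₁, h₁⟩ := ih (q + 1) (by omega) (by omega) _ hK
    obtain ⟨n₂, h₂⟩ := ih (q + 1) (by omega) (by omega) F hF
    refine ⟨max a (max n₁ n₂), fun n hn i hi => ?_⟩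
    have ha : (a : ℤ) ≤ n := le_trans (by exact_mod_cast le_max_left _ _) hn
    have hn₁ : (n₁ : ℤ) ≤ n :=
      le_trans (by exact_mod_cast (le_max_left _ _).trans (le_max_right _ _)) hn
    have hn₂ : (n₂ : ℤ) ≤ n :=
      le_trans (by exact_mod_cast (le_max_right _ _).trans (le_max_right _ _)) hn
    rcases Nat.eq_or_lt_of_le hi with rfl | hlt
    · obtain ⟨e⟩ := nonempty_tw_sumO r R N (-(a : ℤ)) n
      refine subsingleton_right (shortExact_twist r R p n) q ?_ (h₁ n hn₁ (q + 1) le_rfl)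
      exact subsingleton_of_iso e.symm q (subsingleton_sumO r R N _ (by omega) q hq)
    · exact h₂ n hn₂ i hlt

include hR in
/-- Serre vanishing on projective space. -/
theorem exists_vanishing {F : (CohB1.ProjSpace r R).Modules} (hF : CohB1.IsFP F) :
    ∃ n₀ : ℕ, ∀ n : ℤ, (n₀ : ℤ) ≤ n →
      ∀ q, 1 ≤ q → Subsingleton (Coh.HH (CohB1.ProjSpace r R) ((tw r R n).obj F) q) :=
  exists_vanishing_aux r R hR r 1 le_rfl (by omega) F hF

include hR in
/-- Serre vanishing on closed subschemes flat over the base. -/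
theorem exists_vanishing_closed {X : Scheme.{u}} (ι : X ⟶ CohB1.ProjSpace r R)
    [IsClosedImmersion ι] [Flat (ι ≫ CohB1.ProjSpace.toSpec r R)]
    (F : X.Modules) (hF : CohB1.IsFP F) :
    ∃ N : ℕ, ∀ n : ℕ, N ≤ n → ∀ q : ℕ, 1 ≤ q →
      Subsingleton (Coh.HH X (CohB1.tensorMod F (CohB1.tensorPow
        ((Scheme.Modules.pullback ι).obj (Twist.twistProjSpace r R 1)) n)) q) := by
  have := lfp_toSpec r R
  have hft : LocallyOfFiniteType (ι ≫ CohB1.ProjSpace.toSpec r R) := inferInstance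
  have hfp := locallyOfFinitePresentation_of_flat (ι ≫ CohB1.ProjSpace.toSpec r R)
  have hι : LocallyOfFinitePresentation ι :=
    Flat2D.LfpComp.lfp_of_comp ι (CohB1.ProjSpace.toSpec r R)
  have hFq : F.IsQuasicoherent := PerfC.FPSections.isQCoh_of_isFP hF
  have hP : CohB1.IsFP ((Scheme.Modules.pushforward ι).obj F) := (S1178.result ι F).1 hF
  obtain ⟨N, hN⟩ := exists_vanishing r R hR hP
  refine ⟨N, fun n hn q hq => ?_⟩
  have h1 := hN n (by exact_mod_cast hn) q hq
  obtain ⟨e⟩ := CohqB.FinAmple.nonempty_push_tw ι (isInvertible_twist r R 1) F n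
  obtain ⟨e'⟩ := Ega3B.ProjFrame.nonempty_twistProjSpace_iso r R n
  obtain ⟨g⟩ := Localalg.LichtAsm.nonempty_HH_push ι (CohB1.tensorMod F (CohB1.tensorPow
        ((Scheme.Modules.pullback ι).obj (Twist.twistProjSpace r R 1)) n)) q
  have h2 : Subsingleton (Coh.HH (CohB1.ProjSpace r R) ((Coh.push ι).obj (CohB1.tensorMod F (CohB1.tensorPow
        ((Scheme.Modules.pullback ι).obj (Twist.twistProjSpace r R 1)) n))) q) :=
    subsingleton_of_iso (Ega2.Tens.mapTIso (Iso.refl _) e' ≪≫ e) q h1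
  exact g.symm.injective.subsingleton

end K832.SerreFP
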