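import Groth.Agent.ValPrufer.K832.GlueTorsor
import Groth.Agent.UnramA.AdicEquiv
import Groth.Agent.S2321
import Mathlib.RingTheory.Localization.Away.Basic
import Mathlib.RingTheory.LocalRing.Basic

/-!
# The square of the completion along a principal ideal
-/

set_option autoImplicit false
universe u

open CategoryTheory MonoidalCategory CartesianMonoidalCategory AlgebraicGeometry
open scoped TensorProduct MonObj GrpObj

namespace K832.GlueCompl

open K832.OverAff K832.GlueAlg K832.GlueAlg.Sq K832.GlueCat K832.GlueGeom K832.GlueTorsor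

variable (R : Type u) [CommRing R] (r : R)

/-- The completion. -/
abbrev C : Type u := AdicCompletion (Ideal.span {r}) R

/-- The punctured completion. -/
abbrev Cr : Type u := Localization.Away (algebraMap R (C R r) r)

/-- The first map. -/
noncomputable def β₁ : Localization.Away r →ₐ[R] Cr R r :=
  { Localization.awayMap (algebraMap R (C R r)) r with
    commutes' := fun a => by
      change Localization.awayMap (algebraMap R (C R r)) r (algebraMap R (Localization.Away r) a) = _
      unfold Localization.awayMap IsLocalization.Away.map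
      rw [IsLocalization.map_eq]
      rfl }

/-- The second map. -/
noncomputable def β₂ : C R r →ₐ[R] Cr R r := IsScalarTower.toAlgHom R (C R r) (Cr R r)

theorem sq [IsNoetherianRing R] [IsLocalRing R] [IsDomain R] (hr : ¬ IsUnit r) (h0 : r ≠ 0) :
    Sq R r (Localization.Away r) (C R r) (Cr R r) (β₁ R r) (β₂ R r) := by
  have hff : Module.FaithfullyFlat R (C R r) := by
    refine ((Groth.Agent.S2321.result R (Ideal.span {r})).out 0 1).1 ?_
    rw [IsLocalRing.jacobson_eq_maximalIdeal _ bot_ne_top, Ideal.span_singleton_le_iff_mem]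
    exact hr
  have hnzd : ∀ c : C R r, r • c = 0 → c = 0 := by
    intro c hc
    have h1 : c ⊗ₜ[R] (1 : R) = 0 := by
      refine nzd_tensor (r := r) (C R r) R (fun m hm => ?_) _ ?_
      · rw [smul_eq_mul] at hm
        exact (mul_eq_zero.1 hm).resolve_left h0
      · rw [TensorProduct.smul_tmul', hc, TensorProduct.zero_tmul]
    simpa using congrArg (TensorProduct.rid R (C R r)) h1
  have hfrac : ∀ (A : Type u) [CommRing A] (a : A) (m : Localization.Away a),
      ∃ (n : ℕ) (b : A), algebraMap A _ a ^ n * m = algebraMap A _ b := by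
    intro A _ a m
    obtain ⟨n, b, h⟩ := IsLocalization.Away.surj a m
    exact ⟨n, b, by rw [mul_comm, h]⟩
  refine ⟨IsLocalization.Away.algebraMap_isUnit r, ?_, ?_, ?_, ?_, ?_, hnzd, hff⟩
  · intro m
    obtain ⟨n, b, h⟩ := hfrac R r m
    refine ⟨n, b, ?_⟩
    rw [Algebra.smul_def, map_pow, h]
    rfl
  · exact IsLocalization.injective _ (powers_le_nonZeroDivisors_of_noZeroDivisors h0)
  · change Function.Injective (algebraMap (C R r) (Cr R r))
    refine IsLocalization.injective (M := Submonoid.powers (algebraMap R (C R r) r)) (Cr R r)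
      (Submonoid.powers_le.2 ?_)
    rw [mem_nonZeroDivisors_iff_right]
    intro c hc
    exact hnzd c (by rw [Algebra.smul_def, mul_comm, hc])
  · intro m
    obtain ⟨n, b, h⟩ := hfrac (C R r) _ m
    refine ⟨n, b, ?_⟩
    rw [Algebra.smul_def, map_pow]
    exact h
  · intro k c
    obtain ⟨d, hd⟩ := Groth.Agent.UnramA.AdicEquiv.exists_algebraMap_sub_mem_map_pow
      (Ideal.span {r}) ⟨{r}, by simp⟩ k c
    rw [Ideal.map_span, Set.image_singleton, Ideal.span_singleton_pow,
      Ideal.mem_span_singleton'] at hd
    obtain ⟨e, he⟩ := hd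
    refine ⟨d, -e, ?_⟩
    rw [Algebra.smul_def, map_pow, mul_neg, mul_comm, he]
    ring

theorem subsingleton_of_isUnit (hr : IsUnit r) : Subsingleton (C R r) := by
  have h1 : Ideal.span {r} = ⊤ := Ideal.span_singleton_eq_top.2 hr
  constructor
  intro x y
  apply AdicCompletion.ext
  intro n
  have h2 : (Ideal.span {r} ^ n • (⊤ : Submodule R R)) = ⊤ := by
    rw [h1, Ideal.top_pow, Submodule.top_smul]
  have : Subsingleton (R ⧸ (Ideal.span {r} ^ n • (⊤ : Submodule R R))) :=
    Submodule.Quotient.subsingleton_iff.2 h2
  exact Subsingleton.elim _ _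

theorem subsingleton_Cr (h : IsUnit r ∨ r = 0) : Subsingleton (Cr R r) := by
  rcases h with h | h
  · have := subsingleton_of_isUnit R r h
    exact (algebraMap (C R r) (Cr R r)).codomain_trivial
  · subst h
    have h1 := IsLocalization.Away.algebraMap_isUnit (S := Cr R (0 : R)) (algebraMap R (C R 0) 0)
    have h2 : algebraMap (C R 0) (Cr R 0) (algebraMap R (C R 0) 0) = 0 := by
      have : algebraMap R (C R 0) 0 = 0 := map_zero _
      exact (congrArg (algebraMap (C R 0) (Cr R 0)) this).trans (map_zero _)
    have h3 : IsUnit (0 : Cr R (0 : R)) := h2 ▸ h1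
    exact subsingleton_of_zero_eq_one (isUnit_zero_iff.1 h3)

/-- The factorisation of a point over the punctured completion. -/
theorem exists_factor_Cr [IsNoetherianRing R] [IsLocalRing R] [IsDomain R]
    (G : Over (Spec (CommRingCat.of R))) [GrpObj G] [IsAffine G.left] [Flat G.hom]
    [LocallyOfFinitePresentation G.hom]
    (hGS : ∀ (X : Over (Spec (CommRingCat.of R))) (a : AlgGrp.Action G X),
      NonAbH1.IsTorsorFor Scheme.fppfPrecoverage a →
      NonAbH1.HasSectionOver X (Spec.map (CommRingCat.ofHom (algebraMap R (FractionRing R)))) →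
      NonAbH1.HasSectionOver X (𝟙 (Spec (CommRingCat.of R))))
    (g : U R (Cr R r) ⟶ G) :
    ∃ (g₁ : U R (Localization.Away r) ⟶ G) (g₂ : U R (C R r) ⟶ G),
      g = (Umap (β₂ R r) ≫ g₂) * (Umap (β₁ R r) ≫ g₁) := by
  by_cases h : IsUnit r ∨ r = 0
  · have hs := subsingleton_Cr R r h
    refine ⟨1, 1, ?_⟩
    have hemp : IsEmpty (U R (Cr R r)).left := by
      change IsEmpty (PrimeSpectrum (Cr R r))
      infer_instance
    ext1
    exact (isInitialOfIsEmpty (X := (U R (Cr R r)).left)).hom_ext _ _
  · rw [not_or] at h
    have := flat_sec G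
    have := fp_sec G
    have hu : IsUnit (algebraMap R (FractionRing R) r) :=
      IsUnit.mk0 _ (by
        rw [Ne, IsFractionRing.to_map_eq_zero_iff]
        exact h.2)
    let φ : Localization.Away r →ₐ[R] FractionRing R :=
      IsLocalization.liftAlgHom (M := Submonoid.powers r) (f := Algebra.ofId R (FractionRing R))
        (by
          rintro ⟨_, n, rfl⟩
          change IsUnit (algebraMap R (FractionRing R) (r ^ n))
          rw [map_pow]
          exact hu.pow n)
    exact exists_factor (sq R r h.1 h.2) G g (FractionRing R) φ hGS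

end K832.GlueCompl
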