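import Groth.Agent.ValPrufer.K832.SerreFP
import Groth.Agent.Sga67.Sec
import Groth.Agent.Ega3B.SecHom

/-!
# Surjectivity on global sections of twists
-/

set_option autoImplicit false
universe u

open CategoryTheory CategoryTheory.Limits AlgebraicGeometry

namespace K832.SurjTwist

open K832.Basic K832.KerFP Groth.Agent Groth.Agent.Ega2.Tens

theorem map_whiskerRight {X : Scheme.{u}} {F G : X.Modules} (φ : F ⟶ G) (N : X.Modules) :
    (CohB1.sheafifyMod X).map (MonoidalCategoryStruct.whiskerRight (C := CohB1.PMod X)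
        φ.val (CohB1.toPMod N)) = mapT φ (𝟙 N) := by
  refine hom_ext (M := F) (N := N) (P := CohB1.tensorMod G N) _ _ fun U m n => ?_
  rw [mapT_tmul]
  exact Sga67.Sec.eta_naturality (MonoidalCategoryStruct.whiskerRight (C := CohB1.PMod X)
        φ.val (CohB1.toPMod N)) U (pt m n)

theorem exists_surjective (r : ℕ) {R : Type u} [CommRing R] [IsDomain R] (hR : IsPruf R)
    {X : Scheme.{u}} (ι : X ⟶ CohB1.ProjSpace r R)
    [IsClosedImmersion ι] [Flat (ι ≫ CohB1.ProjSpace.toSpec r R)]
    {F G : X.Modules} (hF : CohB1.IsFP F) (hG : CohB1.IsFP G) (φ : F ⟶ G) [Epi φ] :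
    ∃ N : ℕ, ∀ n : ℕ, N ≤ n → Function.Surjective ((mapT φ (𝟙 (CohB1.tensorPow
      ((Scheme.Modules.pullback ι).obj (Twist.twistProjSpace r R 1)) n))).app ⊤) := by
  have := SerreFP.lfp_toSpec r R
  have hft : LocallyOfFiniteType (ι ≫ CohB1.ProjSpace.toSpec r R) := inferInstance
  have hfp := locallyOfFinitePresentation_of_flat (ι ≫ CohB1.ProjSpace.toSpec r R)
  have hK := isFP_kernel hR (ι ≫ CohB1.ProjSpace.toSpec r R) hF hG φ
  obtain ⟨N, hN⟩ := SerreFP.exists_vanishing_closed r R hR ι _ hK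
  refine ⟨N, fun n hn => ?_⟩
  have hS : (ShortComplex.mk (kernel.ι φ) φ (kernel.condition φ)).ShortExact :=
    { exact := ShortComplex.exact_kernel φ }
  have hL : PicF.IsInvertible (CohB1.tensorPow
      ((Scheme.Modules.pullback ι).obj (Twist.twistProjSpace r R 1)) n) :=
    Fdesc.LocGen.isInvertible_tensorPow (Fdesc.LocGen.isInvertible_pullback ι
      (Sga67.SerreVB.isInvertible_twist r R 1)) n
  have h1 := CohqB.SerTw.shortExact_tw hL hS
  exact Ega3B.SecHom.surjective_app_top h1 (hN n hn 1 le_rfl)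

end K832.SurjTwist
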