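import Groth.Agent.ValPrufer.K832.EquidimVal
import Groth.Agent.ValPrufer.K832.Basic

/-!
# Equidimensionality of fibres over a Prüfer domain
-/

set_option autoImplicit false
universe u

namespace K832.EquidimPruf

open Groth.Agent.Flat2B.FlatDim Groth.Agent.CycB.TrdegAlg IsLocalRing K832.EquidimVal K832.Basic

theorem rtd_eq_of_minimal {R S : Type u} [CommRing R] [IsDomain R] (hR : IsPruf R)
    [CommRing S] [IsDomain S] [Algebra R S] (hinj : Function.Injective (algebraMap R S))
    [Algebra.FiniteType R S] (q : Ideal R) [q.IsPrime] (Q : Ideal S) [Q.IsPrime] [Q.LiesOver q]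
    (hQ : ∀ T : Ideal S, T.IsPrime → q.map (algebraMap R S) ≤ T → T ≤ Q → T = Q) :
    ∃ r : ℕ, rtd q Q = r ∧ Algebra.trdeg R S = r := by
  let M : Submonoid R := q.primeCompl
  let V := Localization.AtPrime q
  have hV : ValuationRing V := hR q
  let N : Submonoid S := Algebra.algebraMapSubmonoid S M
  let T := Localization N
  have hN : N ≤ nonZeroDivisors S := by
    rintro _ ⟨x, hx, rfl⟩
    refine mem_nonZeroDivisors_of_ne_zero ?_
    rw [Ne, map_eq_zero_iff _ hinj]
    rintro rfl
    exact hx q.zero_mem
  have : IsDomain T := IsLocalization.isDomain_localization hN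
  let _ : Algebra V T := inferInstanceAs (Algebra (Localization M) (Localization N))
  have : IsScalarTower R V T :=
    inferInstanceAs (IsScalarTower R (Localization M) (Localization N))
  have hft : Algebra.FiniteType V T := by
    have hpush : Algebra.IsPushout R S V T :=
      (Algebra.isLocalization_iff_isPushout (T := S) (B := T) M V).1 inferInstance
    have hpush' : Algebra.IsPushout R V S T := hpush.symm
    exact Algebra.FiniteType.equiv inferInstance (Algebra.IsPushout.equiv R V S T)
  have hST : Function.Injective (algebraMap S T) := IsLocalization.injective T hN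
  have hRV : Function.Injective (algebraMap R V) :=
    IsLocalization.injective V q.primeCompl_le_nonZeroDivisors
  have hRT : Function.Injective (algebraMap R T) := by
    rw [IsScalarTower.algebraMap_eq R S T]
    exact hST.comp hinj
  have hVT : Function.Injective (algebraMap V T) := by
    rw [injective_iff_map_eq_zero]
    intro x hx
    obtain ⟨⟨a, s⟩, rfl⟩ := IsLocalization.mk'_surjective M x
    have h1 : algebraMap V T (algebraMap R V a) = 0 := by
      rw [← IsLocalization.mk'_spec V a s, map_mul]
      dsimp only at hx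
      rw [hx, zero_mul]
    rw [← IsScalarTower.algebraMap_apply R V T] at h1
    have h2 : a = 0 := (injective_iff_map_eq_zero _).1 hRT a h1
    rw [h2]
    exact IsLocalization.mk'_zero s
  have hdisj : Disjoint (N : Set S) (Q : Set S) := by
    rw [Set.disjoint_left]
    rintro _ ⟨x, hx, rfl⟩ hx'
    apply hx
    rw [Ideal.over_def Q q]
    exact hx'
  let QT : Ideal T := Q.map (algebraMap S T)
  have hQT : QT.IsPrime := IsLocalization.isPrime_of_isPrime_disjoint _ T Q ‹_› hdisj
  have hQTu : QT.under S = Q := IsLocalization.under_map_of_isPrime_disjoint _ T ‹_› hdisj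
  have hL1 : QT.LiesOver Q := ⟨hQTu.symm⟩
  have hL0 : QT.LiesOver q := Ideal.LiesOver.trans QT Q q
  have hLm : (maximalIdeal V).LiesOver q := ⟨(IsLocalization.AtPrime.under_maximalIdeal V q).symm⟩
  have hL2 : QT.LiesOver (maximalIdeal V) := by
    refine ⟨?_⟩
    have h1 : (QT.under V).under R = (maximalIdeal V).under R := by
      rw [Ideal.under_under, ← hL0.over, ← hLm.over]
    rw [← IsLocalization.map_under M V (QT.under V), h1, IsLocalization.map_under M V]
  have hmin : QT ∈ ((maximalIdeal V).map (algebraMap V T)).minimalPrimes := by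
    refine ⟨⟨hQT, ?_⟩, ?_⟩
    · rw [Ideal.map_le_iff_le_comap]
      exact hL2.over.le
    · intro P ⟨hP, hP'⟩ hle
      have h1 : q.map (algebraMap R S) ≤ P.under S := by
        rw [Ideal.map_le_iff_le_comap, ← Ideal.under_def, Ideal.under_under]
        rw [Ideal.map_le_iff_le_comap] at hP'
        have := Ideal.comap_mono (f := algebraMap R V) hP'
        rw [← Ideal.under_def, ← hLm.over, Ideal.comap_comap, ← IsScalarTower.algebraMap_eq] at this
        exact this
      have h2 : P.under S ≤ Q := by
        rw [← hQTu]
        exact Ideal.comap_mono hle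
      have h3 := hQ _ inferInstance h1 h2
      rw [← IsLocalization.map_under N T P, h3]
  obtain ⟨r, hr1, hr2⟩ := exists_rtd_of_minimal hVT QT hmin
  refine ⟨r, ?_, ?_⟩
  · have h1 := rtd_add q Q QT
    have h2 := rtd_add q (maximalIdeal V) QT
    rw [rtd_localization N Q QT, add_zero] at h1
    rw [rtd_localization M q (maximalIdeal V), zero_add, hr1] at h2
    rw [← h1, h2]
  · have : FaithfulSMul R S := (faithfulSMul_iff_algebraMap_injective R S).2 hinj
    have : FaithfulSMul S T := (faithfulSMul_iff_algebraMap_injective S T).2 hST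
    have : FaithfulSMul R V := (faithfulSMul_iff_algebraMap_injective R V).2 hRV
    have : FaithfulSMul V T := (faithfulSMul_iff_algebraMap_injective V T).2 hVT
    have h1 := trdeg_add_eq R S (A := T)
    have h2 := trdeg_add_eq R V (A := T)
    have : Algebra.IsAlgebraic S T := IsLocalization.isAlgebraic _ N
    have : Algebra.IsAlgebraic R V := IsLocalization.isAlgebraic _ M
    rw [trdeg_eq_zero (R := S), add_zero] at h1
    rw [trdeg_eq_zero (R := R), zero_add, hr2] at h2
    rw [h1, h2]

/-- Residual transcendence degrees are at most the generic one. -/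
theorem exists_rtd_le {R S : Type u} [CommRing R] [IsDomain R] (hR : IsPruf R)
    [CommRing S] [IsDomain S] [Algebra R S] (hinj : Function.Injective (algebraMap R S))
    [Algebra.FiniteType R S] (q : Ideal R) [q.IsPrime] (Q : Ideal S) [Q.IsPrime] [Q.LiesOver q] :
    rtd q Q ≤ Algebra.trdeg R S := by
  have hle : q.map (algebraMap R S) ≤ Q := by
    rw [Ideal.map_le_iff_le_comap]
    exact (Ideal.over_def Q q).le
  obtain ⟨T, hT, hTQ⟩ := Ideal.exists_minimalPrimes_le hle
  have hTp := hT.1.1
  have hTL : T.LiesOver q := by
    refine ⟨le_antisymm ?_ ?_⟩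
    · have := hT.1.2
      rwa [Ideal.map_le_iff_le_comap] at this
    · rw [Ideal.over_def Q q]
      exact Ideal.comap_mono hTQ
  obtain ⟨r, hr1, hr2⟩ := rtd_eq_of_minimal hR hinj q T (fun P hP hP' hle' =>
    le_antisymm hle' (hT.2 ⟨hP, hP'⟩ hle'))
  rw [hr2, ← hr1]
  exact rtd_le_of_le q T Q hTQ

end K832.EquidimPruf
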