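import Groth.Agent.Flat2B.FlatDim
import Groth.Agent.S0444
import Groth.Agent.CalgA.DimFormula
import Mathlib.RingTheory.Ideal.MinimalPrime.Noetherian
import Mathlib.RingTheory.Ideal.MinimalPrime.Localization
import Mathlib.RingTheory.Finiteness.Quotient
import Mathlib.RingTheory.TensorProduct.Quotient

/-!
# Equidimensionality of the special fibre over a valuation ring
-/

set_option autoImplicit false
universe u

namespace K832.EquidimVal

open Groth.Agent.Flat2B.FlatDim Groth.Agent.CycB.TrdegAlg IsLocalRing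

theorem rtd_eq_trdeg {A B : Type u} [CommRing A] [CommRing B] [Algebra A B] (t : Ideal A)
    (Q : Ideal B) [t.IsPrime] [Q.IsPrime] [Q.LiesOver t] :
    rtd t Q = Algebra.trdeg (A ⧸ t) (B ⧸ Q) := by
  rw [rtd_eq_trdeg_quotient]
  exact trd_algebraMap (K := A ⧸ t) (L := B ⧸ Q)

theorem rtd_localization {A B : Type u} [CommRing A] [CommRing B] [Algebra A B]
    (M : Submonoid A) [IsLocalization M B] (t : Ideal A)
    (Q : Ideal B) [t.IsPrime] [Q.IsPrime] [Q.LiesOver t] : rtd t Q = 0 := by
  have : Algebra.QuasiFinite A B := Algebra.QuasiFinite.of_isLocalization (R := A) M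
  exact rtd_eq_zero_of_quasiFinite t Q

theorem rtd_surjective {A B : Type u} [CommRing A] [CommRing B] [Algebra A B]
    (h : Function.Surjective (algebraMap A B)) (t : Ideal A)
    (Q : Ideal B) [t.IsPrime] [Q.IsPrime] [Q.LiesOver t] : rtd t Q = 0 := by
  have : Module.Finite A B := Module.Finite.of_surjective (Algebra.linearMap A B) h
  exact rtd_eq_zero_of_quasiFinite t Q

/-- An element which isolates a minimal prime. -/
theorem exists_isolating {S : Type u} [CommRing S] (I : Ideal S) [IsNoetherianRing (S ⧸ I)]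
    (Q : Ideal S) (hQ : Q ∈ I.minimalPrimes) :
    ∃ f ∉ Q, ∀ P : Ideal S, P.IsPrime → I ≤ P → f ∉ P → Q ≤ P := by
  classical
  have hfin : I.minimalPrimes.Finite := by
    rw [Ideal.minimalPrimes_eq_comap]
    exact (minimalPrimes.finite_of_isNoetherianRing (S ⧸ I)).image _
  have hprime : Q.IsPrime := hQ.1.1
  have h : ∀ P : I.minimalPrimes, ∃ f ∉ Q, P.1 ≠ Q → f ∈ P.1 := by
    rintro ⟨P, hP⟩
    by_cases hPQ : P = Q
    · exact ⟨1, (Ideal.ne_top_iff_one _).1 hprime.ne_top, fun h => absurd hPQ h⟩
    · have : ¬ P ≤ Q := fun hle => hPQ (le_antisymm hle (hQ.2 ⟨hP.1.1, hP.1.2⟩ hle))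
      obtain ⟨f, hf, hf'⟩ := SetLike.not_le_iff_exists.1 this
      exact ⟨f, hf', fun _ => hf⟩
  choose f hf hf' using h
  have := hfin.to_subtype
  have := Fintype.ofFinite I.minimalPrimes
  refine ⟨∏ P, f P, ?_, fun P hP hIP hfP => ?_⟩
  · rw [hprime.prod_mem_iff]
    rintro ⟨P, -, hP⟩
    exact hf P hP
  · obtain ⟨P', hP', hle⟩ := Ideal.exists_minimalPrimes_le hIP
    by_cases h : P' = Q
    · rwa [← h]
    · exfalso
      apply hfP
      exact hle (Ideal.mem_of_dvd _ (Finset.dvd_prod_of_mem f (Finset.mem_univ ⟨P', hP'⟩))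
        (hf' ⟨P', hP'⟩ h))

theorem ringKrullDim_quotient_congr {T : Type*} [CommRing T] (I J : Ideal T)
    (h : PrimeSpectrum.zeroLocus (I : Set T) = PrimeSpectrum.zeroLocus (J : Set T)) :
    ringKrullDim (T ⧸ I) = ringKrullDim (T ⧸ J) := by
  rw [ringKrullDim_quotient, ringKrullDim_quotient, h]

/-- The special fibre of a finite type domain over a valuation ring is equidimensional, of
dimension the transcendence degree. -/
theorem exists_rtd_of_minimal {V S : Type u} [CommRing V] [IsDomain V] [ValuationRing V]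
    [CommRing S] [IsDomain S] [Algebra V S] (hinj : Function.Injective (algebraMap V S))
    [Algebra.FiniteType V S] (Q : Ideal S) [Q.IsPrime] [Q.LiesOver (maximalIdeal V)]
    (hQ : Q ∈ ((maximalIdeal V).map (algebraMap V S)).minimalPrimes) :
    ∃ r : ℕ, rtd (maximalIdeal V) Q = r ∧ Algebra.trdeg V S = r := by
  let m := maximalIdeal V
  let I := m.map (algebraMap V S)
  have hn : IsNoetherianRing (S ⧸ I) := by
    let : Field (V ⧸ m) := Ideal.Quotient.field m
    have : Algebra.FiniteType (V ⧸ m) (S ⧸ I) := by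
      have : Algebra.FiniteType V (S ⧸ I) := inferInstance
      exact Algebra.FiniteType.of_restrictScalars_finiteType V (V ⧸ m) (S ⧸ I)
    exact Algebra.FiniteType.isNoetherianRing (V ⧸ m) (S ⧸ I)
  obtain ⟨f, hf, hf'⟩ := exists_isolating I Q hQ
  let T := Localization.Away f
  have hf0 : f ≠ 0 := fun h => hf (by rw [h]; exact Q.zero_mem)
  have hle : Submonoid.powers f ≤ nonZeroDivisors S := by
    rw [Submonoid.powers_le]
    exact mem_nonZeroDivisors_of_ne_zero hf0
  have hTd : IsDomain T := IsLocalization.isDomain_localization hle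
  have hST : Function.Injective (algebraMap S T) := IsLocalization.injective T hle
  have hdisj : Disjoint (Submonoid.powers f : Set S) (Q : Set S) := by
    rw [Ideal.disjoint_powers_iff_notMem_of_isPrime]
    exact hf
  let QT : Ideal T := Q.map (algebraMap S T)
  have hQT : QT.IsPrime := IsLocalization.isPrime_of_isPrime_disjoint _ T Q ‹_› hdisj
  have hQTu : QT.under S = Q := IsLocalization.under_map_of_isPrime_disjoint _ T ‹_› hdisj
  have hL1 : QT.LiesOver Q := ⟨hQTu.symm⟩
  have hL2 : QT.LiesOver m := Ideal.LiesOver.trans QT Q m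
  have hinjT : Function.Injective (algebraMap V T) := by
    rw [IsScalarTower.algebraMap_eq V S T]
    exact hST.comp hinj
  have hmT : m.map (algebraMap V T) ≤ QT := by
    rw [Ideal.map_le_iff_le_comap]
    exact hL2.over.le
  let e := Algebra.TensorProduct.quotIdealMapEquivQuotTensor T m
  have hnt : Nontrivial (TensorProduct V (ResidueField V) T) := by
    have : Nontrivial (T ⧸ m.map (algebraMap V T)) :=
      Ideal.Quotient.nontrivial_iff.2 (fun h => hQT.ne_top (top_le_iff.1 (h ▸ hmT)))
    exact e.symm.toRingEquiv.toEquiv.nontrivial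
  obtain ⟨r, hr1, hr2⟩ := Groth.Agent.S0444.exists_dims (R := V) (S := T) hinjT
  refine ⟨r, ?_, ?_⟩
  · have h1 : ringKrullDim (T ⧸ m.map (algebraMap V T)) = r := by
      rw [← hr1]
      exact ringKrullDim_eq_of_ringEquiv e.toRingEquiv
    have h2 : PrimeSpectrum.zeroLocus (m.map (algebraMap V T) : Set T) =
        PrimeSpectrum.zeroLocus (QT : Set T) := by
      apply le_antisymm
      · intro P hP
        have hP' : m.map (algebraMap V T) ≤ P.asIdeal := hP
        have hP1 : I ≤ P.asIdeal.under S := by
          rw [Ideal.map_le_iff_le_comap, ← Ideal.under_def, Ideal.under_under]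
          rwa [Ideal.map_le_iff_le_comap] at hP'
        have hP2 : f ∉ P.asIdeal.under S := by
          intro h
          exact P.2.ne_top (Ideal.eq_top_of_isUnit_mem _ h (IsLocalization.Away.algebraMap_isUnit f))
        have hP3 := hf' _ inferInstance hP1 hP2
        change QT ≤ P.asIdeal
        rw [Ideal.map_le_iff_le_comap]
        exact hP3
      · exact PrimeSpectrum.zeroLocus_anti_mono hmT
    rw [ringKrullDim_quotient_congr _ _ h2] at h1
    let : Field (V ⧸ m) := Ideal.Quotient.field m
    have hft : Algebra.FiniteType (V ⧸ m) (T ⧸ QT) := inferInstance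
    obtain ⟨n, hn1, hn2⟩ := Groth.Agent.Ega4B.DimFT.exists_dim (V ⧸ m) (T ⧸ QT)
    rw [hn2] at h1
    have h3 : n = r := by exact_mod_cast h1
    subst h3
    rw [← hn1, ← rtd_eq_trdeg m QT, rtd_add m Q QT, rtd_localization (Submonoid.powers f) Q QT,
      add_zero]
  · have : FaithfulSMul V S := (faithfulSMul_iff_algebraMap_injective V S).2 hinj
    have : FaithfulSMul S T := (faithfulSMul_iff_algebraMap_injective S T).2 hST
    have h1 := trdeg_add_eq V S (A := T)
    have : Algebra.IsAlgebraic S T := IsLocalization.isAlgebraic _ (Submonoid.powers f)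
    rw [trdeg_eq_zero (R := S), add_zero, hr2] at h1
    exact h1

end K832.EquidimVal
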