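import Mathlib.RingTheory.Flat.FaithfullyFlat.Algebra
import Mathlib.RingTheory.Flat.FaithfullyFlat.Descent
import Mathlib.RingTheory.TensorProduct.Maps
import Mathlib.RingTheory.TensorProduct.Finite
import Mathlib.RingTheory.Flat.Stability
import Mathlib.LinearAlgebra.TensorProduct.Tower
import Mathlib.RingTheory.Finiteness.Descent

/-!
# Gluing algebras along a completion square
-/

set_option autoImplicit false
universe u

open TensorProduct

namespace K832.GlueAlg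

section Frac

variable {R : Type*} [CommRing R] (r : R) {M M' N : Type*} [AddCommGroup M] [Module R M]
  [AddCommGroup M'] [Module R M'] [AddCommGroup N] [Module R N]

/-- The target is obtained from the image by dividing by powers of `r`. -/
def Frac (f : M →ₗ[R] M') : Prop := ∀ m', ∃ (n : ℕ) (m : M), r ^ n • m' = f m

variable {r}

theorem Frac.lTensor {f : M →ₗ[R] M'} (h : Frac r f) (N : Type*) [AddCommGroup N] [Module R N] :
    Frac r (f.lTensor N) := by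
  intro z
  induction z with
  | zero => exact ⟨0, 0, by simp⟩
  | tmul x y =>
    obtain ⟨n, m, hm⟩ := h y
    exact ⟨n, x ⊗ₜ m, by rw [LinearMap.lTensor_tmul, ← hm, TensorProduct.tmul_smul]⟩
  | add x y hx hy =>
    obtain ⟨n, m, hm⟩ := hx
    obtain ⟨n', m', hm'⟩ := hy
    refine ⟨n + n', r ^ n' • m + r ^ n • m', ?_⟩
    rw [map_add, map_smul, map_smul, ← hm, ← hm', smul_smul, smul_smul, smul_add, pow_add]
    congr 2
    ring

theorem Frac.rTensor {f : M →ₗ[R] M'} (h : Frac r f) (N : Type*) [AddCommGroup N] [Module R N] :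
    Frac r (f.rTensor N) := by
  intro z
  induction z with
  | zero => exact ⟨0, 0, by simp⟩
  | tmul x y =>
    obtain ⟨n, m, hm⟩ := h x
    exact ⟨n, m ⊗ₜ y, by rw [LinearMap.rTensor_tmul, ← hm, TensorProduct.smul_tmul']⟩
  | add x y hx hy =>
    obtain ⟨n, m, hm⟩ := hx
    obtain ⟨n', m', hm'⟩ := hy
    refine ⟨n + n', r ^ n' • m + r ^ n • m', ?_⟩
    rw [map_add, map_smul, map_smul, ← hm, ← hm', smul_smul, smul_smul, smul_add, pow_add]
    congr 2
    ring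

theorem smul_pow_eq_zero {M : Type*} [AddCommGroup M] [Module R M]
    (h : ∀ m : M, r • m = 0 → m = 0) (n : ℕ) (m : M) (hm : r ^ n • m = 0) : m = 0 := by
  induction n with
  | zero => simpa using hm
  | succ n ih =>
    apply ih
    apply h
    rw [smul_smul, ← pow_succ']
    exact hm

theorem injective_of_isUnit {Q : Type*} [CommRing Q] [Algebra R Q] (h : IsUnit (algebraMap R Q r))
    (m : Q) (hm : r • m = 0) : m = 0 := by
  rw [Algebra.smul_def] at hm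
  exact (h.mul_right_eq_zero).1 hm

theorem nzd_tensor (N M : Type*) [AddCommGroup N] [Module R N] [AddCommGroup M] [Module R M]
    [Module.Flat R N] (h : ∀ m : M, r • m = 0 → m = 0) (z : N ⊗[R] M) (hz : r • z = 0) : z = 0 := by
  have h1 : Function.Injective ((LinearMap.lsmul R M r).lTensor N) := by
    apply Module.Flat.lTensor_preserves_injective_linearMap
    rw [injective_iff_map_eq_zero]
    exact h
  apply h1
  rw [map_zero]
  have : (LinearMap.lsmul R M r).lTensor N = LinearMap.lsmul R (N ⊗[R] M) r := by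
    ext x y
    simp
  rw [this]
  exact hz

end Frac

/-- The algebraic properties of the square `R → R[1/r], R^ → R^[1/r]`. -/
structure Sq (R : Type u) [CommRing R] (r : R) (T₁ T₂ T₁₂ : Type u) [CommRing T₁] [CommRing T₂]
    [CommRing T₁₂] [Algebra R T₁] [Algebra R T₂] [Algebra R T₁₂] (α₁ : T₁ →ₐ[R] T₁₂)
    (α₂ : T₂ →ₐ[R] T₁₂) : Prop where
  unit₁ : IsUnit (algebraMap R T₁ r)
  frac₁ : Frac r (Algebra.linearMap R T₁)
  inj₁ : Function.Injective (algebraMap R T₁)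
  inj₂ : Function.Injective α₂
  frac₂ : Frac r α₂.toLinearMap
  approx : ∀ (k : ℕ) (c : T₂), ∃ (d : R) (e : T₂), c = algebraMap R T₂ d + r ^ k • e
  nzd : ∀ c : T₂, r • c = 0 → c = 0
  ff : Module.FaithfullyFlat R T₂

namespace Sq

variable {R : Type u} [CommRing R] {r : R} {T₁ T₂ T₁₂ : Type u} [CommRing T₁] [CommRing T₂]
    [CommRing T₁₂] [Algebra R T₁] [Algebra R T₂] [Algebra R T₁₂] {α₁ : T₁ →ₐ[R] T₁₂}
    {α₂ : T₂ →ₐ[R] T₁₂} (S : Sq R r T₁ T₂ T₁₂ α₁ α₂)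

/-- Base change of an algebra map. -/
noncomputable abbrev bc (P : Type u) [CommRing P] [Algebra R P] {T T' : Type u} [CommRing T]
    [CommRing T'] [Algebra R T] [Algebra R T'] (α : T →ₐ[R] T') : P ⊗[R] T →ₐ[R] P ⊗[R] T' :=
  Algebra.TensorProduct.map (AlgHom.id R P) α

theorem bc_eq_lTensor (P : Type u) [CommRing P] [Algebra R P] {T T' : Type u} [CommRing T]
    [CommRing T'] [Algebra R T] [Algebra R T'] (α : T →ₐ[R] T') (z : P ⊗[R] T) :
    bc P α z = α.toLinearMap.lTensor P z := rfl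

variable (P : Type u) [CommRing P] [Algebra R P]

theorem bc_injective [Module.Flat R P] {T T' : Type u} [CommRing T]
    [CommRing T'] [Algebra R T] [Algebra R T'] (α : T →ₐ[R] T') (h : Function.Injective α) :
    Function.Injective (bc P α) :=
  Module.Flat.lTensor_preserves_injective_linearMap (M := P) α.toLinearMap h

include S in
theorem isUnit_tensor : IsUnit (algebraMap R (P ⊗[R] T₁) r) := by
  have h := S.unit₁.map (Algebra.TensorProduct.includeRight : T₁ →ₐ[R] P ⊗[R] T₁)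
  rwa [AlgHom.commutes] at h

include S in
theorem frac_left : ∀ z : P ⊗[R] T₁, ∃ (n : ℕ) (p : P), r ^ n • z = p ⊗ₜ[R] (1 : T₁) := by
  intro z
  obtain ⟨n, m, hm⟩ := S.frac₁.lTensor P z
  refine ⟨n, TensorProduct.rid R P m, ?_⟩
  rw [hm]
  clear hm
  induction m with
  | zero => simp
  | tmul x y =>
    simp only [LinearMap.lTensor_tmul, TensorProduct.rid_tmul, Algebra.linearMap_apply]
    rw [Algebra.algebraMap_eq_smul_one, TensorProduct.tmul_smul, TensorProduct.smul_tmul']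
  | add x y hx hy =>
    rw [map_add, map_add, TensorProduct.add_tmul, hx, hy]

include S in
theorem tmul_one_injective [Module.Flat R P] (p : P) (h : p ⊗ₜ[R] (1 : T₁) = 0) : p = 0 := by
  have h1 : Function.Injective ((Algebra.linearMap R T₁).lTensor P) :=
    Module.Flat.lTensor_preserves_injective_linearMap (M := P) _ S.inj₁
  have h2 : (Algebra.linearMap R T₁).lTensor P (p ⊗ₜ 1) = 0 := by
    rw [LinearMap.lTensor_tmul, Algebra.linearMap_apply, map_one, h]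
  have h3 : p ⊗ₜ[R] (1 : R) = 0 := h1 (by rw [h2, map_zero])
  have h4 := congrArg (TensorProduct.rid R P) h3
  simpa using h4

include S in
theorem exists_eq_pow_smul (n : ℕ) (p : P) (y : P ⊗[R] T₂) (h : r ^ n • y = p ⊗ₜ[R] (1 : T₂)) :
    ∃ p' : P, p = r ^ n • p' := by
  have := S.ff
  have h1 := Ideal.comap_map_eq_self_of_faithfullyFlat (A := P) (B := P ⊗[R] T₂)
    (Ideal.span {algebraMap R P r ^ n})
  have h2 : p ∈ (Ideal.span {algebraMap R P r ^ n}).comap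
      (RingHom.id P) := by
    have h3 : p ∈ ((Ideal.span {algebraMap R P r ^ n}).map (algebraMap P (P ⊗[R] T₂))).comap
        (algebraMap P (P ⊗[R] T₂)) := by
      rw [Ideal.mem_comap]
      have h4 : algebraMap P (P ⊗[R] T₂) p = algebraMap P (P ⊗[R] T₂) (algebraMap R P r ^ n) * y := by
        rw [Algebra.TensorProduct.algebraMap_apply, Algebra.algebraMap_self, RingHom.id_apply, ← h,
          Algebra.smul_def, map_pow, map_pow, ← IsScalarTower.algebraMap_apply]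
      rw [h4]
      exact Ideal.mul_mem_right _ _ (Ideal.mem_map_of_mem _ (Ideal.mem_span_singleton_self _))
    rw [h1] at h3
    exact h3
  rw [Ideal.comap_id, Ideal.mem_span_singleton'] at h2
  obtain ⟨a, ha⟩ := h2
  exact ⟨a, by rw [Algebra.smul_def, map_pow, mul_comm, ha]⟩

include S in
theorem nzd_left [Module.Flat R P] (y : P ⊗[R] T₂) (n : ℕ) (h : r ^ n • y = 0) : y = 0 :=
  smul_pow_eq_zero (nzd_tensor P T₂ S.nzd) n y h

include S in
/-- The square is cartesian after any flat base change. -/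
theorem existsUnique_glue [Module.Flat R P] (x : P ⊗[R] T₁) (y : P ⊗[R] T₂)
    (h : bc P α₁ x = bc P α₂ y) :
    ∃! p : P, p ⊗ₜ[R] (1 : T₁) = x ∧ p ⊗ₜ[R] (1 : T₂) = y := by
  obtain ⟨n, p, hp⟩ := S.frac_left P x
  have h1 : bc P α₂ (r ^ n • y) = bc P α₂ (p ⊗ₜ[R] (1 : T₂)) := by
    rw [map_smul, ← h, ← map_smul, hp, Algebra.TensorProduct.map_tmul,
      Algebra.TensorProduct.map_tmul, map_one, map_one]
  have h2 := bc_injective P α₂ S.inj₂ h1
  obtain ⟨p', rfl⟩ := S.exists_eq_pow_smul P n p y h2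
  refine ⟨p', ⟨?_, ?_⟩, ?_⟩
  · have h3 : r ^ n • (p' ⊗ₜ[R] (1 : T₁) - x) = 0 := by
      rw [smul_sub, hp, TensorProduct.smul_tmul', sub_self]
    exact sub_eq_zero.1 (smul_pow_eq_zero (injective_of_isUnit (S.isUnit_tensor P)) n _ h3)
  · have h3 : r ^ n • (p' ⊗ₜ[R] (1 : T₂) - y) = 0 := by
      rw [smul_sub, h2, TensorProduct.smul_tmul', sub_self]
    exact sub_eq_zero.1 (S.nzd_left P _ n h3)
  · rintro q ⟨hq, -⟩
    have h4 : (q - p') ⊗ₜ[R] (1 : T₁) = 0 := by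
      rw [TensorProduct.sub_tmul, hq, sub_eq_zero]
      have h3 : r ^ n • (p' ⊗ₜ[R] (1 : T₁) - x) = 0 := by
        rw [smul_sub, hp, TensorProduct.smul_tmul', sub_self]
      exact (sub_eq_zero.1
        (smul_pow_eq_zero (injective_of_isUnit (S.isUnit_tensor P)) n _ h3)).symm
    exact sub_eq_zero.1 (S.tmul_one_injective P _ h4)

/-! ### The glued algebra -/

variable {P}
variable (γ : P ⊗[R] T₁₂ ≃ₐ[R] P ⊗[R] T₁₂)

variable (α₁ α₂) in
/-- The algebra glued from `P ⊗ T₁` and `P ⊗ T₂` along `γ`. -/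
noncomputable def glued : Subalgebra R ((P ⊗[R] T₁) × (P ⊗[R] T₂)) :=
  AlgHom.equalizer ((bc P α₁).comp (AlgHom.fst R _ _))
    ((γ.toAlgHom.comp (bc P α₂)).comp (AlgHom.snd R _ _))

theorem mem_glued {x : P ⊗[R] T₁} {y : P ⊗[R] T₂} :
    (x, y) ∈ glued α₁ α₂ γ ↔ bc P α₁ x = γ (bc P α₂ y) := Iff.rfl

variable (α₁ α₂) in
/-- First projection. -/
noncomputable def p₁ : glued α₁ α₂ γ →ₐ[R] P ⊗[R] T₁ :=
  (AlgHom.fst R _ _).comp (glued α₁ α₂ γ).val

variable (α₁ α₂) in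
/-- Second projection. -/
noncomputable def p₂ : glued α₁ α₂ γ →ₐ[R] P ⊗[R] T₂ :=
  (AlgHom.snd R _ _).comp (glued α₁ α₂ γ).val

theorem p_compat (a : glued α₁ α₂ γ) : bc P α₁ (p₁ α₁ α₂ γ a) = γ (bc P α₂ (p₂ α₁ α₂ γ a)) :=
  a.2

variable (α₁ α₂) in
/-- First comparison. -/
noncomputable def m₁ : glued α₁ α₂ γ ⊗[R] T₁ →ₐ[R] P ⊗[R] T₁ :=
  Algebra.TensorProduct.productMap (p₁ α₁ α₂ γ) Algebra.TensorProduct.includeRight

variable (α₁ α₂) in
/-- Second comparison. -/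
noncomputable def m₂ : glued α₁ α₂ γ ⊗[R] T₂ →ₐ[R] P ⊗[R] T₂ :=
  Algebra.TensorProduct.productMap (p₂ α₁ α₂ γ) Algebra.TensorProduct.includeRight

include S in
theorem exists_frac (z : P ⊗[R] T₁₂) : ∃ (n : ℕ) (y : P ⊗[R] T₂), r ^ n • z = bc P α₂ y :=
  S.frac₂.lTensor P z

include S in
theorem exists_frac' (z : P ⊗[R] T₁₂) : ∃ (n : ℕ) (y : P ⊗[R] T₂), r ^ n • z = γ (bc P α₂ y) := by
  obtain ⟨n, y, h⟩ := S.exists_frac (γ.symm z)
  refine ⟨n, y, ?_⟩
  rw [← h, map_smul, AlgEquiv.apply_symm_apply]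

include S in
theorem p₁_injective [Module.Flat R P] : Function.Injective (p₁ α₁ α₂ γ) := by
  rw [injective_iff_map_eq_zero]
  rintro ⟨⟨x, y⟩, h⟩ h0
  have hx : x = 0 := h0
  subst hx
  have h1 : γ (bc P α₂ y) = 0 := by
    rw [← (mem_glued γ).1 h, map_zero]
  have h2 : y = 0 := by
    have h3 := (injective_iff_map_eq_zero γ).1 γ.injective _ h1
    exact (injective_iff_map_eq_zero _).1 (bc_injective P α₂ S.inj₂) _ h3
  subst h2
  rfl

include S in
theorem m₁_bijective [Module.Flat R P] : Function.Bijective (m₁ α₁ α₂ γ) := by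
  obtain ⟨t, ht⟩ := S.unit₁.exists_right_inv
  constructor
  · rw [injective_iff_map_eq_zero]
    intro z hz
    obtain ⟨n, a, ha⟩ := S.frac_left (glued α₁ α₂ γ) z
    have h1 : p₁ α₁ α₂ γ a = 0 := by
      have h2 : m₁ α₁ α₂ γ (a ⊗ₜ[R] (1 : T₁)) = p₁ α₁ α₂ γ a :=
        Algebra.TensorProduct.productMap_left_apply _ _ _
      rw [← h2, ← ha, map_smul, hz, smul_zero]
    have h2 : a = 0 := (injective_iff_map_eq_zero _).1 (S.p₁_injective γ) _ h1
    rw [h2, TensorProduct.zero_tmul] at ha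
    exact smul_pow_eq_zero (injective_of_isUnit (S.isUnit_tensor (glued α₁ α₂ γ))) n z ha
  · intro x
    obtain ⟨n, y, h⟩ := S.exists_frac' γ (bc P α₁ x)
    rw [← map_smul] at h
    refine ⟨(⟨(r ^ n • x, y), h⟩ : glued α₁ α₂ γ) ⊗ₜ[R] (t ^ n), ?_⟩
    change (r ^ n • x) * ((1 : P) ⊗ₜ[R] (t ^ n)) = x
    have h3 : r ^ n • ((1 : P) ⊗ₜ[R] (t ^ n)) = (1 : P ⊗[R] T₁) := by
      rw [← TensorProduct.tmul_smul, Algebra.smul_def, map_pow, ← mul_pow, ht, one_pow]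
      rfl
    rw [smul_mul_assoc, ← mul_smul_comm, h3, mul_one]

/-- The comparison `(P ⊗ T₁) ⊗ T₂ → P ⊗ T₁₂`. -/
noncomputable def ψ (P : Type u) [CommRing P] [Algebra R P] (α₁ : T₁ →ₐ[R] T₁₂) (α₂ : T₂ →ₐ[R] T₁₂) :
    (P ⊗[R] T₁) ⊗[R] T₂ →ₐ[R] P ⊗[R] T₁₂ :=
  Algebra.TensorProduct.productMap (bc P α₁) (Algebra.TensorProduct.includeRight.comp α₂)

theorem ψ_tmul (x : P ⊗[R] T₁) (c : T₂) :
    ψ P α₁ α₂ (x ⊗ₜ[R] c) = bc P α₁ x * ((1 : P) ⊗ₜ[R] α₂ c) := rfl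

include S in
theorem ψ_injective [Module.Flat R P] : Function.Injective (ψ P α₁ α₂) := by
  rw [injective_iff_map_eq_zero]
  intro z hz
  let f : P →ₗ[R] P ⊗[R] T₁ := (Algebra.TensorProduct.includeLeft : P →ₐ[R] P ⊗[R] T₁).toLinearMap
  have hf : Frac r f := fun z => S.frac_left P z
  obtain ⟨n, y, h⟩ := hf.rTensor T₂ z
  have h1 : ∀ y : P ⊗[R] T₂, ψ P α₁ α₂ (f.rTensor T₂ y) = bc P α₂ y := by
    intro y
    induction y with
    | zero => simp
    | tmul p c =>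
      rw [LinearMap.rTensor_tmul, ψ_tmul]
      change bc P α₁ (p ⊗ₜ[R] (1 : T₁)) * _ = _
      rw [Algebra.TensorProduct.map_tmul, Algebra.TensorProduct.map_tmul, map_one,
        Algebra.TensorProduct.tmul_mul_tmul, one_mul, mul_one]
    | add y y' h h' => rw [map_add, map_add, map_add, h, h']
  have h2 : y = 0 := by
    apply (injective_iff_map_eq_zero _).1 (bc_injective P α₂ S.inj₂)
    rw [← h1, ← h, map_smul, hz, smul_zero]
  rw [h2, map_zero] at h
  have h3 := (S.isUnit_tensor P).map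
    (Algebra.TensorProduct.includeLeft : P ⊗[R] T₁ →ₐ[R] (P ⊗[R] T₁) ⊗[R] T₂)
  rw [AlgHom.commutes] at h3
  exact smul_pow_eq_zero (fun m hm => injective_of_isUnit h3 m hm) n z h

include S in
theorem ψ_surjective : Function.Surjective (ψ P α₁ α₂) := by
  intro z
  obtain ⟨t, ht⟩ := S.unit₁.exists_right_inv
  have h1 : ∀ (n : ℕ) (w : P ⊗[R] T₂), ∃ v : (P ⊗[R] T₁) ⊗[R] T₂,
      r ^ n • ψ P α₁ α₂ v = bc P α₂ w := by
    intro n w
    induction w with
    | zero => exact ⟨0, by simp⟩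
    | tmul p c =>
      refine ⟨(p ⊗ₜ[R] (t ^ n)) ⊗ₜ[R] c, ?_⟩
      rw [ψ_tmul, Algebra.TensorProduct.map_tmul, Algebra.TensorProduct.map_tmul,
        ← smul_mul_assoc, ← TensorProduct.tmul_smul, ← map_smul, Algebra.smul_def, map_pow,
        ← mul_pow, ht, one_pow, map_one, Algebra.TensorProduct.tmul_mul_tmul, one_mul, mul_one]
    | add w w' h h' =>
      obtain ⟨v, hv⟩ := h
      obtain ⟨v', hv'⟩ := h'
      exact ⟨v + v', by rw [map_add, map_add, smul_add, hv, hv']⟩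
  obtain ⟨n, w, hw⟩ := S.exists_frac z
  obtain ⟨v, hv⟩ := h1 n w
  refine ⟨v, ?_⟩
  have hu : IsUnit (algebraMap R (P ⊗[R] T₁₂) r) := by
    have h := S.unit₁.map ((Algebra.TensorProduct.includeRight : T₁₂ →ₐ[R] P ⊗[R] T₁₂).comp α₁)
    rwa [AlgHom.commutes] at h
  have h2 : r ^ n • (ψ P α₁ α₂ v - z) = 0 := by
    rw [smul_sub, hv, hw, sub_self]
  exact sub_eq_zero.1 (smul_pow_eq_zero (injective_of_isUnit hu) n _ h2)

theorem ψ_comp (hγ : ∀ t : T₁₂, γ ((1 : P) ⊗ₜ[R] t) = (1 : P) ⊗ₜ[R] t)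
    (w : glued α₁ α₂ γ ⊗[R] T₂) :
    ψ P α₁ α₂ ((p₁ α₁ α₂ γ).toLinearMap.rTensor T₂ w) = γ (bc P α₂ (m₂ α₁ α₂ γ w)) := by
  induction w with
  | zero => simp
  | tmul a c =>
    rw [LinearMap.rTensor_tmul, ψ_tmul]
    change bc P α₁ (p₁ α₁ α₂ γ a) * _ = γ (bc P α₂ (p₂ α₁ α₂ γ a * ((1 : P) ⊗ₜ[R] c)))
    rw [map_mul, map_mul, p_compat, Algebra.TensorProduct.map_tmul, map_one, hγ]
  | add w w' h h' => rw [map_add, map_add, map_add, map_add, map_add, h, h']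

include S in
theorem m₂_bijective [Module.Flat R P]
    (hγ : ∀ t : T₁₂, γ ((1 : P) ⊗ₜ[R] t) = (1 : P) ⊗ₜ[R] t) :
    Function.Bijective (m₂ α₁ α₂ γ) := by
  have hff := S.ff
  constructor
  · have h1 : Function.Injective ((p₁ α₁ α₂ γ).toLinearMap.rTensor T₂) :=
      Module.Flat.rTensor_preserves_injective_linearMap _ (S.p₁_injective γ)
    intro w w' h
    apply h1
    apply S.ψ_injective
    rw [ψ_comp γ hγ, ψ_comp γ hγ, h]
  · -- decomposition
    have h1 : ∀ v : (P ⊗[R] T₁) ⊗[R] T₂, ∃ (x : P ⊗[R] T₁) (w : glued α₁ α₂ γ ⊗[R] T₂),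
        v = x ⊗ₜ[R] (1 : T₂) + (p₁ α₁ α₂ γ).toLinearMap.rTensor T₂ w := by
      intro v
      induction v with
      | zero => exact ⟨0, 0, by simp⟩
      | tmul x c =>
        obtain ⟨k, y, h⟩ := S.exists_frac' γ (bc P α₁ x)
        rw [← map_smul] at h
        obtain ⟨d, e, rfl⟩ := S.approx k c
        refine ⟨d • x, (⟨(r ^ k • x, y), h⟩ : glued α₁ α₂ γ) ⊗ₜ[R] e, ?_⟩
        rw [LinearMap.rTensor_tmul]
        change _ = _ + (r ^ k • x) ⊗ₜ[R] e
        rw [TensorProduct.tmul_add, TensorProduct.tmul_smul, TensorProduct.smul_tmul',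
          Algebra.algebraMap_eq_smul_one, TensorProduct.tmul_smul, TensorProduct.smul_tmul']
      | add v v' h h' =>
        obtain ⟨x, w, rfl⟩ := h
        obtain ⟨x', w', rfl⟩ := h'
        refine ⟨x + x', w + w', ?_⟩
        rw [TensorProduct.add_tmul, map_add]
        abel
    intro y
    obtain ⟨v, hv⟩ := S.ψ_surjective (γ (bc P α₂ y))
    obtain ⟨x, w, rfl⟩ := h1 v
    rw [map_add, ψ_comp γ hγ, ψ_tmul, map_one] at hv
    have h2 : bc P α₁ x = γ (bc P α₂ (y - m₂ α₁ α₂ γ w)) := by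
      rw [map_sub, map_sub, ← hv]
      have : ((1 : P) ⊗ₜ[R] (1 : T₁₂)) = (1 : P ⊗[R] T₁₂) := rfl
      rw [this, mul_one]
      abel
    refine ⟨(⟨(x, y - m₂ α₁ α₂ γ w), h2⟩ : glued α₁ α₂ γ) ⊗ₜ[R] (1 : T₂) + w, ?_⟩
    rw [map_add]
    have h3 : m₂ α₁ α₂ γ ((⟨(x, y - m₂ α₁ α₂ γ w), h2⟩ : glued α₁ α₂ γ) ⊗ₜ[R] (1 : T₂)) =
        y - m₂ α₁ α₂ γ w := Algebra.TensorProduct.productMap_left_apply _ _ _
    rw [h3]
    abel

include S in
theorem nonempty_algEquiv [Module.Flat R P]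
    (hγ : ∀ t : T₁₂, γ ((1 : P) ⊗ₜ[R] t) = (1 : P) ⊗ₜ[R] t) :
    Nonempty (T₂ ⊗[R] P ≃ₐ[T₂] T₂ ⊗[R] glued α₁ α₂ γ) := by
  let e₁ : glued α₁ α₂ γ ⊗[R] T₂ ≃ₐ[R] P ⊗[R] T₂ :=
    AlgEquiv.ofBijective (m₂ α₁ α₂ γ) (S.m₂_bijective γ hγ)
  let e : T₂ ⊗[R] glued α₁ α₂ γ ≃ₐ[R] T₂ ⊗[R] P :=
    ((Algebra.TensorProduct.comm R _ _).trans e₁).trans (Algebra.TensorProduct.comm R _ _)
  let e' : T₂ ⊗[R] glued α₁ α₂ γ ≃ₐ[T₂] T₂ ⊗[R] P := AlgEquiv.ofRingEquiv (f := e.toRingEquiv) (by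
    intro c
    change Algebra.TensorProduct.comm R _ _ (m₂ α₁ α₂ γ ((1 : glued α₁ α₂ γ) ⊗ₜ[R] c)) = _
    have h1 : m₂ α₁ α₂ γ ((1 : glued α₁ α₂ γ) ⊗ₜ[R] c) = (1 : P) ⊗ₜ[R] c :=
      Algebra.TensorProduct.productMap_right_apply _ _ _
    rw [h1]
    rfl)
  exact ⟨e'.symm⟩

include S in
theorem flat_glued [Module.Flat R P]
    (hγ : ∀ t : T₁₂, γ ((1 : P) ⊗ₜ[R] t) = (1 : P) ⊗ₜ[R] t) :
    Module.Flat R (glued α₁ α₂ γ) := by
  have := S.ff
  obtain ⟨e⟩ := S.nonempty_algEquiv γ hγ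
  have : Module.Flat T₂ (T₂ ⊗[R] glued α₁ α₂ γ) := Module.Flat.of_linearEquiv e.symm.toLinearEquiv
  exact Module.Flat.of_flat_tensorProduct R (glued α₁ α₂ γ) T₂

include S in
theorem fp_glued [Module.Flat R P] [Algebra.FinitePresentation R P]
    (hγ : ∀ t : T₁₂, γ ((1 : P) ⊗ₜ[R] t) = (1 : P) ⊗ₜ[R] t) :
    Algebra.FinitePresentation R (glued α₁ α₂ γ) := by
  have := S.ff
  obtain ⟨e⟩ := S.nonempty_algEquiv γ hγ
  have : Algebra.FinitePresentation T₂ (T₂ ⊗[R] glued α₁ α₂ γ) :=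
    Algebra.FinitePresentation.equiv e
  exact Algebra.FinitePresentation.of_finitePresentation_tensorProduct_of_faithfullyFlat (T := T₂)

end Sq

end K832.GlueAlg
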