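import Mathlib.CategoryTheory.Monoidal.Cartesian.Grp

/-!
# Gluing torsors along a square, in a cartesian monoidal category
-/

set_option autoImplicit false
universe v u

open CategoryTheory MonoidalCategory CartesianMonoidalCategory MonObj GrpObj

namespace K832.GlueCat

variable {C : Type u} [Category.{v} C] [CartesianMonoidalCategory C]

/-- `Y ⊗ -` turns the square `U₁₂ → U₁, U₂ → 1` into a pushout as far as maps to `W` go. -/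
def GlueTo {U₁ U₂ U₁₂ : C} (a₁ : U₁₂ ⟶ U₁) (a₂ : U₁₂ ⟶ U₂) (Y W : C) : Prop :=
  ∀ (f₁ : Y ⊗ U₁ ⟶ W) (f₂ : Y ⊗ U₂ ⟶ W), (Y ◁ a₁) ≫ f₁ = (Y ◁ a₂) ≫ f₂ →
    ∃! f : Y ⟶ W, fst Y U₁ ≫ f = f₁ ∧ fst Y U₂ ≫ f = f₂

theorem whiskerRight_eq_lift {A B D : C} (f : A ⟶ B) : f ▷ D = lift (fst A D ≫ f) (snd A D) := by
  ext <;> simp

theorem lift_whiskerLeft {T A B D : C} (x : T ⟶ A) (y : T ⟶ B) (f : B ⟶ D) :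
    lift x y ≫ (A ◁ f) = lift x (y ≫ f) := by
  ext <;> simp

theorem lift_whiskerRight' {T A B D : C} (x : T ⟶ A) (y : T ⟶ D) (f : A ⟶ B) :
    lift x y ≫ (f ▷ D) = lift (x ≫ f) y := by
  ext <;> simp

/-- The glued object: `ι₁, ι₂` are the charts, `ξ₁, ξ₂` their inverses, glued along `g`. -/
structure Data (G : C) [GrpObj G] {U₁ U₂ U₁₂ : C} (a₁ : U₁₂ ⟶ U₁) (a₂ : U₁₂ ⟶ U₂) (g : U₁₂ ⟶ G) where
  X : C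
  i₁ : G ⊗ U₁ ⟶ X
  i₂ : G ⊗ U₂ ⟶ X
  x₁ : X ⊗ U₁ ⟶ G
  x₂ : X ⊗ U₂ ⟶ G
  h₁ : lift i₁ (snd G U₁) ≫ x₁ = fst G U₁
  h₂ : lift i₂ (snd G U₂) ≫ x₂ = fst G U₂
  k₁ : lift x₁ (snd X U₁) ≫ i₁ = fst X U₁
  k₂ : lift x₂ (snd X U₂) ≫ i₂ = fst X U₂
  compat : (G ◁ a₁) ≫ i₁ = lift (fst G U₁₂ * (snd G U₁₂ ≫ g)) (snd G U₁₂) ≫ (G ◁ a₂) ≫ i₂

namespace Data

variable {G : C} [GrpObj G] {U₁ U₂ U₁₂ : C} {a₁ : U₁₂ ⟶ U₁} {a₂ : U₁₂ ⟶ U₂} {g : U₁₂ ⟶ G}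
  (D : Data G a₁ a₂ g)

theorem x_compat : (D.X ◁ a₂) ≫ D.x₂ = ((D.X ◁ a₁) ≫ D.x₁) * (snd D.X U₁₂ ≫ g) := by
  have e1 : lift ((D.X ◁ a₁) ≫ D.x₁) (snd D.X U₁₂) ≫ (G ◁ a₁) ≫ D.i₁ = fst D.X U₁₂ := by
    rw [← Category.assoc, lift_whiskerLeft]
    have : lift ((D.X ◁ a₁) ≫ D.x₁) (snd D.X U₁₂ ≫ a₁) = (D.X ◁ a₁) ≫ lift D.x₁ (snd D.X U₁) := by
      ext <;> simp
    rw [this, Category.assoc, D.k₁]
    simp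
  rw [D.compat] at e1
  have e2 : D.X ◁ a₂ = lift (lift ((D.X ◁ a₁) ≫ D.x₁) (snd D.X U₁₂) ≫
      lift (fst G U₁₂ * (snd G U₁₂ ≫ g)) (snd G U₁₂) ≫ (G ◁ a₂) ≫ D.i₂)
      (snd D.X U₁₂ ≫ a₂) := by
    rw [e1]
    ext <;> simp
  have e3 : D.X ◁ a₂ = lift ((D.X ◁ a₁) ≫ D.x₁) (snd D.X U₁₂) ≫
      lift (fst G U₁₂ * (snd G U₁₂ ≫ g)) (snd G U₁₂) ≫ (G ◁ a₂) ≫ lift D.i₂ (snd G U₂) := by
    rw [e2]
    ext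
    · simp
    · simp
  rw [e3]
  simp only [Category.assoc]
  rw [D.h₂]
  simp [comp_mul]

theorem existsUnique_of_glueTo {Y : C} (hY : GlueTo a₁ a₂ Y D.X) (y₁ : Y ⊗ U₁ ⟶ G)
    (y₂ : Y ⊗ U₂ ⟶ G) (h : (Y ◁ a₂) ≫ y₂ = ((Y ◁ a₁) ≫ y₁) * (snd Y U₁₂ ≫ g)) :
    ∃! f : Y ⟶ D.X, (f ▷ U₁) ≫ D.x₁ = y₁ ∧ (f ▷ U₂) ≫ D.x₂ = y₂ := by
  have hc : (Y ◁ a₁) ≫ lift y₁ (snd Y U₁) ≫ D.i₁ = (Y ◁ a₂) ≫ lift y₂ (snd Y U₂) ≫ D.i₂ := by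
    have e1 : (Y ◁ a₁) ≫ lift y₁ (snd Y U₁) = lift ((Y ◁ a₁) ≫ y₁) (snd Y U₁₂) ≫ (G ◁ a₁) := by
      ext <;> simp
    have e2 : (Y ◁ a₂) ≫ lift y₂ (snd Y U₂) = lift ((Y ◁ a₂) ≫ y₂) (snd Y U₁₂) ≫ (G ◁ a₂) := by
      ext <;> simp
    rw [← Category.assoc, e1, ← Category.assoc, e2, Category.assoc, Category.assoc, D.compat, h]
    rw [← Category.assoc]
    congr 1
    ext
    · simp [comp_mul]
    · simp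
  obtain ⟨f, ⟨hf1, hf2⟩, hf⟩ := hY _ _ hc
  refine ⟨f, ⟨?_, ?_⟩, ?_⟩
  · rw [whiskerRight_eq_lift, hf1]
    have : lift (lift y₁ (snd Y U₁) ≫ D.i₁) (snd Y U₁) =
        lift y₁ (snd Y U₁) ≫ lift D.i₁ (snd G U₁) := by
      ext <;> simp
    rw [this, Category.assoc, D.h₁]
    simp
  · rw [whiskerRight_eq_lift, hf2]
    have : lift (lift y₂ (snd Y U₂) ≫ D.i₂) (snd Y U₂) =
        lift y₂ (snd Y U₂) ≫ lift D.i₂ (snd G U₂) := by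
      ext <;> simp
    rw [this, Category.assoc, D.h₂]
    simp
  · rintro f' ⟨h1, h2⟩
    refine hf f' ⟨?_, ?_⟩
    · have e : fst Y U₁ ≫ f' = (f' ▷ U₁) ≫ lift D.x₁ (snd D.X U₁) ≫ D.i₁ := by
        rw [D.k₁]
        simp
      rw [e, ← Category.assoc]
      congr 1
      ext
      · simp [h1]
      · simp
    · have e : fst Y U₂ ≫ f' = (f' ▷ U₂) ≫ lift D.x₂ (snd D.X U₂) ≫ D.i₂ := by
        rw [D.k₂]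
        simp
      rw [e, ← Category.assoc]
      congr 1
      ext
      · simp [h2]
      · simp

theorem hom_ext {Y : C} (hY : GlueTo a₁ a₂ Y D.X) {f f' : Y ⟶ D.X}
    (h₁ : (f ▷ U₁) ≫ D.x₁ = (f' ▷ U₁) ≫ D.x₁) (h₂ : (f ▷ U₂) ≫ D.x₂ = (f' ▷ U₂) ≫ D.x₂) :
    f = f' := by
  have hc : (Y ◁ a₂) ≫ (f' ▷ U₂) ≫ D.x₂ =
      ((Y ◁ a₁) ≫ (f' ▷ U₁) ≫ D.x₁) * (snd Y U₁₂ ≫ g) := by
    have e1 : (Y ◁ a₂) ≫ (f' ▷ U₂) = (f' ▷ U₁₂) ≫ (D.X ◁ a₂) := by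
      rw [whisker_exchange]
    have e2 : (Y ◁ a₁) ≫ (f' ▷ U₁) = (f' ▷ U₁₂) ≫ (D.X ◁ a₁) := by
      rw [whisker_exchange]
    rw [← Category.assoc, e1, ← Category.assoc, e2, Category.assoc, D.x_compat, comp_mul]
    simp
  obtain ⟨f₀, -, hf⟩ := D.existsUnique_of_glueTo hY _ _ hc
  rw [hf f ⟨h₁, h₂⟩, hf f' ⟨rfl, rfl⟩]

/-- Existence of the action map. -/
theorem exists_act (hY : GlueTo a₁ a₂ (G ⊗ D.X) D.X) :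
    ∃ act : G ⊗ D.X ⟶ D.X,
      (act ▷ U₁) ≫ D.x₁ = (fst (G ⊗ D.X) U₁ ≫ fst G D.X) * ((snd G D.X ▷ U₁) ≫ D.x₁) ∧
      (act ▷ U₂) ≫ D.x₂ = (fst (G ⊗ D.X) U₂ ≫ fst G D.X) * ((snd G D.X ▷ U₂) ≫ D.x₂) := by
  obtain ⟨f, hf, -⟩ := D.existsUnique_of_glueTo hY
    ((fst (G ⊗ D.X) U₁ ≫ fst G D.X) * ((snd G D.X ▷ U₁) ≫ D.x₁))
    ((fst (G ⊗ D.X) U₂ ≫ fst G D.X) * ((snd G D.X ▷ U₂) ≫ D.x₂)) (by
      rw [comp_mul, comp_mul]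
      have e1 : ((G ⊗ D.X) ◁ a₂) ≫ (snd G D.X ▷ U₂) = (snd G D.X ▷ U₁₂) ≫ (D.X ◁ a₂) := by
        rw [whisker_exchange]
      have e2 : ((G ⊗ D.X) ◁ a₁) ≫ (snd G D.X ▷ U₁) = (snd G D.X ▷ U₁₂) ≫ (D.X ◁ a₁) := by
        rw [whisker_exchange]
      rw [← Category.assoc ((G ⊗ D.X) ◁ a₂) (snd G D.X ▷ U₂), e1,
        ← Category.assoc ((G ⊗ D.X) ◁ a₁) (snd G D.X ▷ U₁), e2, Category.assoc, D.x_compat,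
        comp_mul]
      simp [_root_.mul_assoc])
  exact ⟨f, hf⟩

section Act

variable (act : G ⊗ D.X ⟶ D.X)
  (ha₁ : (act ▷ U₁) ≫ D.x₁ = (fst (G ⊗ D.X) U₁ ≫ fst G D.X) * ((snd G D.X ▷ U₁) ≫ D.x₁))
  (ha₂ : (act ▷ U₂) ≫ D.x₂ = (fst (G ⊗ D.X) U₂ ≫ fst G D.X) * ((snd G D.X ▷ U₂) ≫ D.x₂))

include ha₁ in
theorem act_x₁ {Y : C} (h : Y ⟶ G) (f : Y ⟶ D.X) :
    ((lift h f ≫ act) ▷ U₁) ≫ D.x₁ = (fst Y U₁ ≫ h) * ((f ▷ U₁) ≫ D.x₁) := by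
  rw [comp_whiskerRight, Category.assoc, ha₁, comp_mul]
  congr 1
  · simp
  · rw [← Category.assoc, ← comp_whiskerRight, lift_snd]

include ha₂ in
theorem act_x₂ {Y : C} (h : Y ⟶ G) (f : Y ⟶ D.X) :
    ((lift h f ≫ act) ▷ U₂) ≫ D.x₂ = (fst Y U₂ ≫ h) * ((f ▷ U₂) ≫ D.x₂) := by
  rw [comp_whiskerRight, Category.assoc, ha₂, comp_mul]
  congr 1
  · simp
  · rw [← Category.assoc, ← comp_whiskerRight, lift_snd]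

include ha₁ ha₂

theorem one_act (hY : GlueTo a₁ a₂ (𝟙_ C ⊗ D.X) D.X) : (η[G] ▷ D.X) ≫ act = (λ_ D.X).hom := by
  have e : (η[G] ▷ D.X) = lift (1 : 𝟙_ C ⊗ D.X ⟶ G) (snd _ _) := by
    ext
    · simp [Hom.one_def]
      congr 1
      exact toUnit_unique _ _
    · simp
  refine D.hom_ext hY ?_ ?_
  · rw [e, D.act_x₁ act ha₁, comp_one, _root_.one_mul]
    congr 1
    simp [leftUnitor_hom]
  · rw [e, D.act_x₂ act ha₂, comp_one, _root_.one_mul]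
    congr 1
    simp [leftUnitor_hom]

theorem mul_act (hY : GlueTo a₁ a₂ ((G ⊗ G) ⊗ D.X) D.X) :
    (μ[G] ▷ D.X) ≫ act = (α_ G G D.X).hom ≫ (G ◁ act) ≫ act := by
  have e : (μ[G] ▷ D.X) = lift ((fst (G ⊗ G) D.X ≫ fst G G) * (fst (G ⊗ G) D.X ≫ snd G G))
      (snd _ _) := by
    ext
    · simp [Hom.mul_def]
    · simp
  have e' : (α_ G G D.X).hom ≫ (G ◁ act) = lift (fst (G ⊗ G) D.X ≫ fst G G)
      (lift (fst (G ⊗ G) D.X ≫ snd G G) (snd _ _) ≫ act) := by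
    ext
    · simp
    · have e2 : (α_ G G D.X).hom ≫ snd G (G ⊗ D.X) =
          lift (fst (G ⊗ G) D.X ≫ snd G G) (snd (G ⊗ G) D.X) := by
        ext <;> simp
      rw [Category.assoc, whiskerLeft_snd, ← Category.assoc, e2, lift_snd]
  rw [← Category.assoc, e', e]
  refine D.hom_ext hY ?_ ?_
  · rw [D.act_x₁ act ha₁, D.act_x₁ act ha₁, D.act_x₁ act ha₁, comp_mul, _root_.mul_assoc]
  · rw [D.act_x₂ act ha₂, D.act_x₂ act ha₂, D.act_x₂ act ha₂, comp_mul, _root_.mul_assoc]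

theorem isIso_lift_act (h1 : GlueTo a₁ a₂ (D.X ⊗ D.X) G) (h2 : GlueTo a₁ a₂ (G ⊗ D.X) G)
    (h3 : GlueTo a₁ a₂ (D.X ⊗ D.X) D.X) : IsIso (lift act (snd G D.X)) := by
  obtain ⟨d, ⟨hd₁, hd₂⟩, -⟩ := h1
    (((fst D.X D.X ▷ U₁) ≫ D.x₁) * ((snd D.X D.X ▷ U₁) ≫ D.x₁)⁻¹)
    (((fst D.X D.X ▷ U₂) ≫ D.x₂) * ((snd D.X D.X ▷ U₂) ≫ D.x₂)⁻¹) (by
      rw [comp_mul, comp_mul, comp_inv, comp_inv]
      simp only [← Category.assoc]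
      have e1 : ∀ p : D.X ⊗ D.X ⟶ D.X, ((D.X ⊗ D.X) ◁ a₂) ≫ (p ▷ U₂) = (p ▷ U₁₂) ≫ (D.X ◁ a₂) := by
        intro p
        rw [whisker_exchange]
      have e2 : ∀ p : D.X ⊗ D.X ⟶ D.X, ((D.X ⊗ D.X) ◁ a₁) ≫ (p ▷ U₁) = (p ▷ U₁₂) ≫ (D.X ◁ a₁) := by
        intro p
        rw [whisker_exchange]
      rw [e1, e1, e2, e2]
      simp only [Category.assoc]
      rw [D.x_compat, comp_mul, comp_mul]
      simp)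
  refine ⟨lift d (snd D.X D.X), ?_, ?_⟩
  · ext
    · simp only [Category.assoc, lift_fst, Category.id_comp]
      obtain ⟨f₀, -, hf₀⟩ := h2 (fst (G ⊗ D.X) U₁ ≫ fst G D.X) (fst (G ⊗ D.X) U₂ ≫ fst G D.X)
        (by simp)
      rw [hf₀ (lift act (snd G D.X) ≫ d) ⟨?_, ?_⟩, hf₀ (fst G D.X) ⟨rfl, rfl⟩]
      · have e : fst (G ⊗ D.X) U₁ ≫ lift act (snd G D.X) ≫ d =
            (lift act (snd G D.X) ▷ U₁) ≫ fst _ _ ≫ d := by simp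
        rw [e, hd₁, comp_mul, comp_inv]
        simp only [← Category.assoc, ← comp_whiskerRight, lift_fst, lift_snd]
        rw [ha₁]
        simp
      · have e : fst (G ⊗ D.X) U₂ ≫ lift act (snd G D.X) ≫ d =
            (lift act (snd G D.X) ▷ U₂) ≫ fst _ _ ≫ d := by simp
        rw [e, hd₂, comp_mul, comp_inv]
        simp only [← Category.assoc, ← comp_whiskerRight, lift_fst, lift_snd]
        rw [ha₂]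
        simp
    · simp
  · ext
    · simp only [comp_lift, lift_fst, Category.id_comp]
      refine D.hom_ext h3 ?_ ?_
      · rw [D.act_x₁ act ha₁, hd₁]
        simp
      · rw [D.act_x₂ act ha₂, hd₂]
        simp
    · simp

end Act

/-- A section of the glued object decomposes `g`. -/
theorem exists_decomp (s : 𝟙_ C ⟶ D.X) :
    ∃ (y₁ : U₁ ⟶ G) (y₂ : U₂ ⟶ G), a₂ ≫ y₂ = (a₁ ≫ y₁) * g := by
  refine ⟨(λ_ U₁).inv ≫ (s ▷ U₁) ≫ D.x₁, (λ_ U₂).inv ≫ (s ▷ U₂) ≫ D.x₂, ?_⟩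
  have e1 : a₂ ≫ (λ_ U₂).inv ≫ (s ▷ U₂) = (λ_ U₁₂).inv ≫ (s ▷ U₁₂) ≫ (D.X ◁ a₂) := by
    rw [leftUnitor_inv_naturality_assoc, whisker_exchange]
  have e2 : a₁ ≫ (λ_ U₁).inv ≫ (s ▷ U₁) = (λ_ U₁₂).inv ≫ (s ▷ U₁₂) ≫ (D.X ◁ a₁) := by
    rw [leftUnitor_inv_naturality_assoc, whisker_exchange]
  have e1' : a₂ ≫ (λ_ U₂).inv ≫ (s ▷ U₂) ≫ D.x₂ =
      (λ_ U₁₂).inv ≫ (s ▷ U₁₂) ≫ (D.X ◁ a₂) ≫ D.x₂ := by
    simpa using congrArg (· ≫ D.x₂) e1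
  have e2' : a₁ ≫ (λ_ U₁).inv ≫ (s ▷ U₁) ≫ D.x₁ =
      (λ_ U₁₂).inv ≫ (s ▷ U₁₂) ≫ (D.X ◁ a₁) ≫ D.x₁ := by
    simpa using congrArg (· ≫ D.x₁) e2
  rw [e1', e2', D.x_compat, comp_mul, comp_mul]
  simp

/-- The glued object has a point over `U₁`. -/
theorem exists_point : Nonempty (U₁ ⟶ D.X) := ⟨lift (1 : U₁ ⟶ G) (𝟙 _) ≫ D.i₁⟩

end Data

end K832.GlueCat
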