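import Mathlib.AlgebraicGeometry.Pullbacks
import Mathlib.AlgebraicGeometry.Morphisms.Affine
import Mathlib.AlgebraicGeometry.Morphisms.Flat
import Mathlib.CategoryTheory.Monoidal.Cartesian.Over
import Mathlib.Algebra.Category.Ring.Constructions

/-!
# Affine schemes over a ring and their global sections
-/

set_option autoImplicit false
universe u

open CategoryTheory MonoidalCategory CartesianMonoidalCategory AlgebraicGeometry
open scoped TensorProduct

namespace K832.OverAff

variable {R : Type u} [CommRing R]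

/-- The affine `R`-scheme attached to an algebra. -/
noncomputable abbrev U (R : Type u) [CommRing R] (T : Type u) [CommRing T] [Algebra R T] :
    Over (Spec (CommRingCat.of R)) :=
  Over.mk (Spec.map (CommRingCat.ofHom (algebraMap R T)))

/-- Global sections of an `R`-scheme. -/
def Sec (Y : Over (Spec (CommRingCat.of R))) : Type u := Γ(Y.left, ⊤)

noncomputable instance (Y : Over (Spec (CommRingCat.of R))) : CommRing (Sec Y) :=
  inferInstanceAs (CommRing Γ(Y.left, ⊤))

/-- The structure map on global sections. -/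
noncomputable def str (Y : Over (Spec (CommRingCat.of R))) :
    CommRingCat.of R ⟶ Γ(Y.left, ⊤) :=
  (Scheme.ΓSpecIso (CommRingCat.of R)).inv ≫ Y.hom.appTop

noncomputable instance (Y : Over (Spec (CommRingCat.of R))) : Algebra R (Sec Y) :=
  (str Y).hom.toAlgebra

variable {Y Z W : Over (Spec (CommRingCat.of R))}

theorem str_comp (f : Y ⟶ Z) : str Z ≫ f.left.appTop = str Y := by
  unfold str
  rw [Category.assoc, ← Scheme.Hom.comp_appTop, Over.w]

/-- Functoriality of global sections. -/
noncomputable def Sec.map (f : Y ⟶ Z) : Sec Z →ₐ[R] Sec Y :=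
  { f.left.appTop.hom with
    commutes' := fun a => congrArg (fun φ : CommRingCat.of R ⟶ Γ(Y.left, ⊤) => φ.hom a)
      (str_comp f) }

theorem Sec.map_apply (f : Y ⟶ Z) (x : Sec Z) : Sec.map f x = f.left.appTop.hom x := rfl

@[simp]
theorem Sec.map_id (x : Sec Y) : Sec.map (𝟙 Y) x = x := by
  rw [Sec.map_apply, Over.id_left, Scheme.Hom.id_appTop]
  rfl

theorem Sec.map_comp (f : Y ⟶ Z) (g : Z ⟶ W) (x : Sec W) :
    Sec.map (f ≫ g) x = Sec.map f (Sec.map g x) := by
  rw [Sec.map_apply, Over.comp_left, Scheme.Hom.comp_appTop]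
  rfl

theorem Sec.map_injective [IsAffine Z.left] {f g : Y ⟶ Z} (h : Sec.map f = Sec.map g) :
    f = g := by
  ext1
  apply ext_of_isAffine
  ext x
  exact congrArg (fun φ => φ x) h

theorem Sec.exists_map_eq [IsAffine Z.left] (φ : Sec Z →ₐ[R] Sec Y) :
    ∃ f : Y ⟶ Z, Sec.map f = φ := by
  let ψ : Γ(Z.left, ⊤) ⟶ Γ(Y.left, ⊤) := CommRingCat.ofHom φ.toRingHom
  let f : Y.left ⟶ Z.left := Y.left.toSpecΓ ≫ Spec.map ψ ≫ Z.left.isoSpec.inv
  have hf : f.appTop = ψ := by
    have h1 : Z.left.isoSpec.inv.appTop = (Scheme.ΓSpecIso Γ(Z.left, ⊤)).inv := by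
      have h2 : Z.left.toSpecΓ.appTop ≫ Z.left.isoSpec.inv.appTop = 𝟙 _ := by
        rw [← Scheme.Hom.comp_appTop, Scheme.isoSpec_inv_toSpecΓ, Scheme.Hom.id_appTop]
      rw [Scheme.toSpecΓ_appTop] at h2
      rw [← Category.id_comp (Scheme.Hom.appTop _), ← Iso.inv_hom_id (Scheme.ΓSpecIso Γ(Z.left, ⊤)),
        Category.assoc, h2, Category.comp_id]
    change (Y.left.toSpecΓ ≫ Spec.map ψ ≫ Z.left.isoSpec.inv).appTop = ψ
    rw [Scheme.Hom.comp_appTop, Scheme.Hom.comp_appTop, h1, Scheme.toSpecΓ_appTop, Category.assoc,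
      ← Scheme.ΓSpecIso_inv_naturality_assoc]
    simp
  have hw : f ≫ Z.hom = Y.hom := by
    apply ext_of_isAffine
    rw [Scheme.Hom.comp_appTop, hf]
    have h1 : str Z ≫ ψ = str Y := by
      ext a
      exact φ.commutes a
    unfold str at h1
    rwa [Category.assoc, Iso.cancel_iso_inv_left] at h1
  refine ⟨Over.homMk f hw, ?_⟩
  ext x
  change f.appTop.hom x = φ x
  rw [hf]
  rfl

/-- Morphisms to affine schemes. -/
noncomputable def homEquiv (Y Z : Over (Spec (CommRingCat.of R))) [IsAffine Z.left] :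
    (Y ⟶ Z) ≃ (Sec Z →ₐ[R] Sec Y) :=
  Equiv.ofBijective Sec.map ⟨fun _ _ h => Sec.map_injective h, fun φ => Sec.exists_map_eq φ⟩

@[simp]
theorem map_homEquiv_symm [IsAffine Z.left] (φ : Sec Z →ₐ[R] Sec Y) :
    Sec.map ((homEquiv Y Z).symm φ) = φ := (homEquiv Y Z).apply_symm_apply φ

theorem isIso_of_bijective [IsAffine Y.left] [IsAffine Z.left] (f : Y ⟶ Z)
    (h : Function.Bijective (Sec.map f)) : IsIso f := by
  let e : Sec Z ≃ₐ[R] Sec Y := AlgEquiv.ofBijective (Sec.map f) h
  refine ⟨(homEquiv Z Y).symm e.symm.toAlgHom, ?_, ?_⟩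
  · apply Sec.map_injective
    ext x
    rw [Sec.map_comp, map_homEquiv_symm, Sec.map_id]
    exact e.apply_symm_apply x
  · apply Sec.map_injective
    ext x
    rw [Sec.map_comp, map_homEquiv_symm, Sec.map_id]
    exact e.symm_apply_apply x

instance isAffine_U (T : Type u) [CommRing T] [Algebra R T] : IsAffine (U R T).left :=
  inferInstanceAs (IsAffine (Spec (CommRingCat.of T)))

instance isAffine_tensor [IsAffine Y.left] [IsAffine Z.left] : IsAffine (Y ⊗ Z).left :=
  inferInstanceAs (IsAffine (Limits.pullback Y.hom Z.hom))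

instance isAffine_unit : IsAffine (𝟙_ (Over (Spec (CommRingCat.of R)))).left :=
  inferInstanceAs (IsAffine (Spec (CommRingCat.of R)))

/-- Sections of an affine scheme. -/
noncomputable def secU (R : Type u) [CommRing R] (T : Type u) [CommRing T] [Algebra R T] :
    T ≃ₐ[R] Sec (U R T) :=
  AlgEquiv.ofRingEquiv (f := (Scheme.ΓSpecIso (CommRingCat.of T)).symm.commRingCatIsoToRingEquiv) (by
    intro a
    have h1 : (Scheme.ΓSpecIso (CommRingCat.of R)).inv ≫
        (Spec.map (CommRingCat.ofHom (algebraMap R T))).appTop =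
        CommRingCat.ofHom (algebraMap R T) ≫ (Scheme.ΓSpecIso (CommRingCat.of T)).inv :=
      (Scheme.ΓSpecIso_inv_naturality (CommRingCat.ofHom (algebraMap R T))).symm
    exact (congrArg (fun φ => φ.hom a) h1).symm)

/-- The morphism attached to an algebra map. -/
noncomputable def Umap {T T' : Type u} [CommRing T] [CommRing T'] [Algebra R T] [Algebra R T']
    (α : T →ₐ[R] T') : U R T' ⟶ U R T :=
  Over.homMk (Spec.map (CommRingCat.ofHom α.toRingHom)) (by
    change Spec.map _ ≫ Spec.map _ = Spec.map _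
    rw [← Spec.map_comp, ← CommRingCat.ofHom_comp]
    congr 2
    exact α.comp_algebraMap)

theorem map_Umap {T T' : Type u} [CommRing T] [CommRing T'] [Algebra R T] [Algebra R T']
    (α : T →ₐ[R] T') (t : T) : Sec.map (Umap α) (secU R T t) = secU R T' (α t) := by
  have h1 := (Scheme.ΓSpecIso_inv_naturality (CommRingCat.ofHom α.toRingHom))
  exact (congrArg (fun φ => φ.hom t) h1).symm

/-- The product comparison. -/
noncomputable def prodMap (Y Z : Over (Spec (CommRingCat.of R))) : Sec Y ⊗[R] Sec Z →ₐ[R] Sec (Y ⊗ Z) :=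
  Algebra.TensorProduct.productMap (Sec.map (fst Y Z)) (Sec.map (snd Y Z))

theorem prodMap_bijective [IsAffine Y.left] [IsAffine Z.left] :
    Function.Bijective (prodMap Y Z) := by
  have h0 : IsPullback (fst Y Z).left (snd Y Z).left Y.hom Z.hom :=
    IsPullback.of_hasPullback Y.hom Z.hom
  have h1 := isPushout_appTop_of_isPullback h0
  have h2' : IsPushout (str Y) (str Z) (fst Y Z).left.appTop (snd Y Z).left.appTop := by
    refine h1.of_iso (Scheme.ΓSpecIso (CommRingCat.of R)) (Iso.refl _) (Iso.refl _) (Iso.refl _)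
      ?_ ?_ ?_ ?_
    · rw [Iso.refl_hom, Category.comp_id, ← Iso.inv_comp_eq]
      rfl
    · rw [Iso.refl_hom, Category.comp_id, ← Iso.inv_comp_eq]
      rfl
    · rw [Iso.refl_hom, Category.comp_id, Iso.refl_hom, Category.id_comp]
    · rw [Iso.refl_hom, Category.comp_id, Iso.refl_hom, Category.id_comp]
  have h2 : IsPushout (CommRingCat.ofHom (algebraMap R (Sec Y)))
      (CommRingCat.ofHom (algebraMap R (Sec Z)))
      (CommRingCat.ofHom (Sec.map (fst Y Z)).toRingHom)
      (CommRingCat.ofHom (Sec.map (snd Y Z)).toRingHom) := h2'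
  have h3 := CommRingCat.isPushout_tensorProduct R (Sec Y) (Sec Z)
  let e := h3.isoIsPushout _ _ h2
  have h4 : e.hom = CommRingCat.ofHom (prodMap Y Z).toRingHom := by
    apply h3.hom_ext
    · rw [IsPushout.inl_isoIsPushout_hom]
      ext x
      change Sec.map (fst Y Z) x = Sec.map (fst Y Z) x * Sec.map (snd Y Z) 1
      rw [map_one, mul_one]
    · rw [IsPushout.inr_isoIsPushout_hom]
      ext x
      change Sec.map (snd Y Z) x = Sec.map (fst Y Z) 1 * Sec.map (snd Y Z) x
      rw [map_one, one_mul]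
  have h5 : Function.Bijective e.hom := e.commRingCatIsoToRingEquiv.bijective
  rw [h4] at h5
  exact h5

end K832.OverAff
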