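import Groth.Agent.ValPrufer.K832.GlueCat
import Groth.Agent.ValPrufer.K832.GlueAlg
import Groth.Agent.ValPrufer.K832.OverAff

/-!
# Gluing an affine group along a completion square
-/

set_option autoImplicit false
universe u

open CategoryTheory MonoidalCategory CartesianMonoidalCategory AlgebraicGeometry
open scoped TensorProduct MonObj GrpObj

namespace K832.GlueGeom

open K832.OverAff K832.GlueAlg K832.GlueAlg.Sq K832.GlueCat

variable {R : Type u} [CommRing R]

section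

variable {T T' : Type u} [CommRing T] [CommRing T'] [Algebra R T] [Algebra R T']

/-- Sections of `Y × Spec T`. -/
noncomputable def eT (Y : Over (Spec (CommRingCat.of R))) [IsAffine Y.left] (T : Type u)
    [CommRing T] [Algebra R T] : Sec Y ⊗[R] T ≃ₐ[R] Sec (Y ⊗ U R T) :=
  (Algebra.TensorProduct.congr AlgEquiv.refl (secU R T)).trans
    (AlgEquiv.ofBijective (prodMap Y (U R T)) prodMap_bijective)

theorem eT_tmul (Y : Over (Spec (CommRingCat.of R))) [IsAffine Y.left] (y : Sec Y) (t : T) :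
    eT Y T (y ⊗ₜ[R] t) = Sec.map (fst Y (U R T)) y * Sec.map (snd Y (U R T)) (secU R T t) := rfl

theorem eT_tmul_one (Y : Over (Spec (CommRingCat.of R))) [IsAffine Y.left] (y : Sec Y) :
    eT Y T (y ⊗ₜ[R] (1 : T)) = Sec.map (fst Y (U R T)) y := by
  rw [eT_tmul, map_one, map_one, mul_one]

theorem eT_one_tmul (Y : Over (Spec (CommRingCat.of R))) [IsAffine Y.left] (t : T) :
    eT Y T ((1 : Sec Y) ⊗ₜ[R] t) = Sec.map (snd Y (U R T)) (secU R T t) := by
  rw [eT_tmul, map_one, one_mul]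

theorem map_whisker (Y : Over (Spec (CommRingCat.of R))) [IsAffine Y.left] (α : T →ₐ[R] T')
    (z : Sec Y ⊗[R] T) : Sec.map (Y ◁ Umap α) (eT Y T z) = eT Y T' (bc (Sec Y) α z) := by
  induction z with
  | zero => simp
  | tmul y t =>
    rw [Algebra.TensorProduct.map_tmul, eT_tmul, eT_tmul, map_mul, ← Sec.map_comp, ← Sec.map_comp,
      whiskerLeft_fst, whiskerLeft_snd, Sec.map_comp, map_Umap]
    rfl
  | add z z' h h' => rw [map_add, map_add, map_add, map_add, h, h']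

/-- Flatness of the sections of a product. -/
theorem flat_tensor (Y Z : Over (Spec (CommRingCat.of R))) [IsAffine Y.left] [IsAffine Z.left]
    [Module.Flat R (Sec Y)] [Module.Flat R (Sec Z)] : Module.Flat R (Sec (Y ⊗ Z)) :=
  Module.Flat.of_linearEquiv
    (AlgEquiv.ofBijective (prodMap Y Z) prodMap_bijective).symm.toLinearEquiv

theorem flat_U [Module.Flat R T] : Module.Flat R (Sec (U R T)) :=
  Module.Flat.of_linearEquiv (secU R T).symm.toLinearEquiv

theorem flat_unit : Module.Flat R (Sec (𝟙_ (Over (Spec (CommRingCat.of R))))) := by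
  have h : Function.Bijective (algebraMap R (Sec (𝟙_ (Over (Spec (CommRingCat.of R)))))) := by
    have h1 : str (𝟙_ (Over (Spec (CommRingCat.of R)))) =
        (Scheme.ΓSpecIso (CommRingCat.of R)).inv ≫
          Scheme.Hom.appTop (𝟙 (Spec (CommRingCat.of R))) := rfl
    have h2 : IsIso (str (𝟙_ (Over (Spec (CommRingCat.of R))))) := by
      rw [h1, Scheme.Hom.id_appTop]
      infer_instance
    exact (ConcreteCategory.isIso_iff_bijective _).1 h2
  exact Module.Flat.of_linearEquiv (LinearEquiv.ofBijective (Algebra.linearMap R _) h).symm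

end

variable {r : R} {T₁ T₂ T₁₂ : Type u} [CommRing T₁] [CommRing T₂]
    [CommRing T₁₂] [Algebra R T₁] [Algebra R T₂] [Algebra R T₁₂] {α₁ : T₁ →ₐ[R] T₁₂}
    {α₂ : T₂ →ₐ[R] T₁₂} (S : Sq R r T₁ T₂ T₁₂ α₁ α₂)

include S in
theorem glueTo (Y W : Over (Spec (CommRingCat.of R))) [IsAffine Y.left] [IsAffine W.left]
    [Module.Flat R (Sec Y)] : GlueTo (Umap α₁) (Umap α₂) Y W := by
  intro f₁ f₂ h
  let φ₁ : Sec W →ₐ[R] Sec Y ⊗[R] T₁ := (eT Y T₁).symm.toAlgHom.comp (Sec.map f₁)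
  let φ₂ : Sec W →ₐ[R] Sec Y ⊗[R] T₂ := (eT Y T₂).symm.toAlgHom.comp (Sec.map f₂)
  have hφ₁ : ∀ w, eT Y T₁ (φ₁ w) = Sec.map f₁ w := fun w => (eT Y T₁).apply_symm_apply _
  have hφ₂ : ∀ w, eT Y T₂ (φ₂ w) = Sec.map f₂ w := fun w => (eT Y T₂).apply_symm_apply _
  have hc : ∀ w, bc (Sec Y) α₁ (φ₁ w) = bc (Sec Y) α₂ (φ₂ w) := by
    intro w
    apply (eT Y T₁₂).injective
    rw [← map_whisker, ← map_whisker, hφ₁, hφ₂, ← Sec.map_comp, ← Sec.map_comp, h]
  have hex := fun w => S.existsUnique_glue (Sec Y) (φ₁ w) (φ₂ w) (hc w)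
  choose F hF using fun w => (hex w).exists
  have hu : ∀ w p, p ⊗ₜ[R] (1 : T₁) = φ₁ w → p ⊗ₜ[R] (1 : T₂) = φ₂ w → F w = p :=
    fun w p h1 h2 => (hex w).unique (hF w) ⟨h1, h2⟩
  let φ : Sec W →ₐ[R] Sec Y :=
    { toFun := F
      map_one' := hu 1 1 (by rw [map_one]; rfl) (by rw [map_one]; rfl)
      map_mul' := fun x y => hu (x * y) (F x * F y)
        (by rw [map_mul, ← (hF x).1, ← (hF y).1, Algebra.TensorProduct.tmul_mul_tmul, one_mul])
        (by rw [map_mul, ← (hF x).2, ← (hF y).2, Algebra.TensorProduct.tmul_mul_tmul, one_mul])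
      map_zero' := hu 0 0 (by rw [map_zero, TensorProduct.zero_tmul])
        (by rw [map_zero, TensorProduct.zero_tmul])
      map_add' := fun x y => hu (x + y) (F x + F y)
        (by rw [map_add, ← (hF x).1, ← (hF y).1, TensorProduct.add_tmul])
        (by rw [map_add, ← (hF x).2, ← (hF y).2, TensorProduct.add_tmul])
      commutes' := fun a => hu _ _
        (by rw [AlgHom.commutes, Algebra.TensorProduct.algebraMap_apply])
        (by rw [AlgHom.commutes, Algebra.TensorProduct.algebraMap_apply]) }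
  have hφ : ∀ w, φ w = F w := fun w => rfl
  refine ⟨(homEquiv Y W).symm φ, ⟨?_, ?_⟩, ?_⟩
  · apply Sec.map_injective
    ext w
    rw [Sec.map_comp, map_homEquiv_symm, ← eT_tmul_one, hφ, (hF w).1, hφ₁]
  · apply Sec.map_injective
    ext w
    rw [Sec.map_comp, map_homEquiv_symm, ← eT_tmul_one, hφ, (hF w).2, hφ₂]
  · rintro f ⟨hf₁, hf₂⟩
    apply Sec.map_injective
    ext w
    rw [map_homEquiv_symm, hφ]
    refine (hu w _ ?_ ?_).symm
    · apply (eT Y T₁).injective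
      rw [eT_tmul_one, hφ₁, ← Sec.map_comp, hf₁]
    · apply (eT Y T₂).injective
      rw [eT_tmul_one, hφ₂, ← Sec.map_comp, hf₂]

/-! ### The glued object -/

section Twist

variable (G : Over (Spec (CommRingCat.of R))) [GrpObj G]

/-- The translation by `g`. -/
noncomputable def τ {T : Type u} [CommRing T] [Algebra R T] (g : U R T ⟶ G) :
    G ⊗ U R T ⟶ G ⊗ U R T :=
  lift (fst G (U R T) * (snd G (U R T) ≫ g)) (snd G (U R T))

theorem τ_comp {T : Type u} [CommRing T] [Algebra R T] (g g' : U R T ⟶ G) :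
    τ G g ≫ τ G g' = τ G (g * g') := by
  unfold τ
  ext
  · simp [MonObj.comp_mul, mul_assoc]
  · simp

theorem τ_one {T : Type u} [CommRing T] [Algebra R T] : τ G (1 : U R T ⟶ G) = 𝟙 _ := by
  unfold τ
  ext
  · simp
  · simp

variable [IsAffine G.left] (g : U R T₁₂ ⟶ G)

/-- The gluing isomorphism on functions. -/
noncomputable def γ : Sec G ⊗[R] T₁₂ ≃ₐ[R] Sec G ⊗[R] T₁₂ :=
  ((eT G T₁₂).trans (AlgEquiv.ofAlgHom (Sec.map (τ G g)) (Sec.map (τ G g⁻¹))
    (by
      ext x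
      rw [AlgHom.comp_apply, ← Sec.map_comp, τ_comp, mul_inv_cancel, τ_one, Sec.map_id]
      rfl)
    (by
      ext x
      rw [AlgHom.comp_apply, ← Sec.map_comp, τ_comp, inv_mul_cancel, τ_one, Sec.map_id]
      rfl))).trans (eT G T₁₂).symm

theorem eT_γ (z : Sec G ⊗[R] T₁₂) : eT G T₁₂ (γ G g z) = Sec.map (τ G g) (eT G T₁₂ z) :=
  (eT G T₁₂).apply_symm_apply _

theorem γ_one_tmul (t : T₁₂) : γ G g ((1 : Sec G) ⊗ₜ[R] t) = (1 : Sec G) ⊗ₜ[R] t := by
  apply (eT G T₁₂).injective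
  rw [eT_γ, eT_one_tmul, ← Sec.map_comp]
  unfold τ
  rw [lift_snd]

end Twist


variable (α₁ α₂) in
/-- The glued affine scheme. -/
noncomputable abbrev X (G : Over (Spec (CommRingCat.of R))) [GrpObj G] [IsAffine G.left]
    (g : U R T₁₂ ⟶ G) : Over (Spec (CommRingCat.of R)) :=
  U R (glued α₁ α₂ (γ G g))

section

variable (G : Over (Spec (CommRingCat.of R))) [GrpObj G] [IsAffine G.left]
    (g : U R T₁₂ ⟶ G)

variable (α₁ α₂) in
/-- First chart. -/
noncomputable def i₁ : G ⊗ U R T₁ ⟶ X α₁ α₂ G g :=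
  (homEquiv _ _).symm (((eT G T₁).toAlgHom.comp (p₁ α₁ α₂ (γ G g))).comp
    (secU R (glued α₁ α₂ (γ G g))).symm.toAlgHom)

variable (α₁ α₂) in
/-- Second chart. -/
noncomputable def i₂ : G ⊗ U R T₂ ⟶ X α₁ α₂ G g :=
  (homEquiv _ _).symm (((eT G T₂).toAlgHom.comp (p₂ α₁ α₂ (γ G g))).comp
    (secU R (glued α₁ α₂ (γ G g))).symm.toAlgHom)

theorem map_i₁ (a : glued α₁ α₂ (γ G g)) :
    Sec.map (i₁ α₁ α₂ G g) (secU R _ a) = eT G T₁ (p₁ α₁ α₂ (γ G g) a) := by
  unfold i₁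
  rw [map_homEquiv_symm]
  change eT G T₁ (p₁ α₁ α₂ (γ G g) ((secU R _).symm (secU R _ a))) = _
  rw [AlgEquiv.symm_apply_apply]

theorem map_i₂ (a : glued α₁ α₂ (γ G g)) :
    Sec.map (i₂ α₁ α₂ G g) (secU R _ a) = eT G T₂ (p₂ α₁ α₂ (γ G g) a) := by
  unfold i₂
  rw [map_homEquiv_symm]
  change eT G T₂ (p₂ α₁ α₂ (γ G g) ((secU R _).symm (secU R _ a))) = _
  rw [AlgEquiv.symm_apply_apply]

theorem i_compat : (G ◁ Umap α₁) ≫ i₁ α₁ α₂ G g = τ G g ≫ (G ◁ Umap α₂) ≫ i₂ α₁ α₂ G g := by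
  apply Sec.map_injective
  ext x
  obtain ⟨a, rfl⟩ := (secU R (glued α₁ α₂ (γ G g))).surjective x
  rw [Sec.map_comp, Sec.map_comp, Sec.map_comp, map_i₁, map_i₂, map_whisker, map_whisker, ← eT_γ,
    p_compat]

/-- Sections of `X × U`. -/
theorem bij_of (T : Type u) [CommRing T] [Algebra R T] {A : Type u} [CommRing A] [Algebra R A]
    (i : G ⊗ U R T ⟶ U R A) (m : A ⊗[R] T →ₐ[R] Sec G ⊗[R] T) (hm : Function.Bijective m)
    (h₁ : ∀ a : A, eT G T (m (a ⊗ₜ 1)) = Sec.map i (secU R A a))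
    (h₂ : ∀ t : T, m (1 ⊗ₜ t) = 1 ⊗ₜ t) :
    IsIso (lift i (snd G (U R T))) := by
  apply isIso_of_bijective
  have key : ∀ z : A ⊗[R] T, Sec.map (lift i (snd G (U R T)))
      (eT (U R A) T (Algebra.TensorProduct.congr (secU R A) AlgEquiv.refl z)) =
      eT G T (m z) := by
    intro z
    induction z with
    | zero => simp
    | tmul a t =>
      have e : a ⊗ₜ[R] t = (a ⊗ₜ[R] (1 : T)) * ((1 : A) ⊗ₜ[R] t) := by
        rw [Algebra.TensorProduct.tmul_mul_tmul, mul_one, one_mul]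
      rw [e, map_mul, map_mul, map_mul, map_mul, map_mul, h₁, h₂, eT_one_tmul]
      congr 1
      · change Sec.map _ (eT (U R A) T (secU R A a ⊗ₜ[R] (1 : T))) = _
        rw [eT_tmul_one, ← Sec.map_comp, lift_fst]
      · change Sec.map _ (eT (U R A) T (secU R A 1 ⊗ₜ[R] t)) = _
        rw [map_one, eT_one_tmul, ← Sec.map_comp, lift_snd]
    | add z z' h h' => rw [map_add, map_add, map_add, map_add, map_add, h, h']
  have hb : Function.Bijective fun z : A ⊗[R] T => eT G T (m z) := (eT G T).bijective.comp hm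
  have hb' : Function.Bijective fun z : A ⊗[R] T =>
      (eT (U R A) T (Algebra.TensorProduct.congr (secU R A) AlgEquiv.refl z)) :=
    (eT (U R A) T).bijective.comp (Algebra.TensorProduct.congr (secU R A) AlgEquiv.refl).bijective
  have : (Sec.map (lift i (snd G (U R T)))) ∘ (fun z : A ⊗[R] T =>
      (eT (U R A) T (Algebra.TensorProduct.congr (secU R A) AlgEquiv.refl z))) =
      fun z : A ⊗[R] T => eT G T (m z) := funext key
  rw [← this] at hb
  exact (Function.Bijective.of_comp_iff _ hb').1 hb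

variable [Module.Flat R (Sec G)]

include S in
theorem isIso₁ : IsIso (lift (i₁ α₁ α₂ G g) (snd G (U R T₁))) :=
  bij_of G T₁ (i₁ α₁ α₂ G g) (m₁ α₁ α₂ (γ G g)) (S.m₁_bijective (γ G g))
    (fun a => by
      rw [map_i₁]
      congr 1
      exact Algebra.TensorProduct.productMap_left_apply _ _ _)
    (fun t => Algebra.TensorProduct.productMap_right_apply _ _ _)

include S in
theorem isIso₂ : IsIso (lift (i₂ α₁ α₂ G g) (snd G (U R T₂))) :=
  bij_of G T₂ (i₂ α₁ α₂ G g) (m₂ α₁ α₂ (γ G g)) (S.m₂_bijective (γ G g) (γ_one_tmul G g))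
    (fun a => by
      rw [map_i₂]
      congr 1
      exact Algebra.TensorProduct.productMap_left_apply _ _ _)
    (fun t => Algebra.TensorProduct.productMap_right_apply _ _ _)

/-- The glued object. -/
noncomputable def data : Data G (Umap α₁) (Umap α₂) g :=
  haveI h₁ := isIso₁ S G g
  haveI h₂ := isIso₂ S G g
  have e₁ : inv (lift (i₁ α₁ α₂ G g) (snd G (U R T₁))) ≫ snd G (U R T₁) =
      snd (X α₁ α₂ G g) (U R T₁) := by rw [IsIso.inv_comp_eq, lift_snd]
  have e₂ : inv (lift (i₂ α₁ α₂ G g) (snd G (U R T₂))) ≫ snd G (U R T₂) =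
      snd (X α₁ α₂ G g) (U R T₂) := by rw [IsIso.inv_comp_eq, lift_snd]
  { X := X α₁ α₂ G g
    i₁ := i₁ α₁ α₂ G g
    i₂ := i₂ α₁ α₂ G g
    x₁ := inv (lift (i₁ α₁ α₂ G g) (snd G (U R T₁))) ≫ fst G (U R T₁)
    x₂ := inv (lift (i₂ α₁ α₂ G g) (snd G (U R T₂))) ≫ fst G (U R T₂)
    h₁ := by rw [IsIso.hom_inv_id_assoc]
    h₂ := by rw [IsIso.hom_inv_id_assoc]
    k₁ := by
      rw [← e₁, ← comp_lift, lift_fst_snd, Category.comp_id, IsIso.inv_comp_eq, lift_fst]
    k₂ := by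
      rw [← e₂, ← comp_lift, lift_fst_snd, Category.comp_id, IsIso.inv_comp_eq, lift_fst]
    compat := i_compat G g }

theorem data_X : (data S G g).X = X α₁ α₂ G g := rfl

end

end K832.GlueGeom
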