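import Groth.Agent.ValPrufer.K832.GlueGeom
import Groth.Prelude.Def_NonAbH2
import Mathlib.AlgebraicGeometry.Sites.Fpqc
import Mathlib.AlgebraicGeometry.Morphisms.FinitePresentation

/-!
# The torsor glued along a completion square
-/

set_option autoImplicit false
universe u

open CategoryTheory MonoidalCategory CartesianMonoidalCategory AlgebraicGeometry
open scoped TensorProduct MonObj GrpObj

namespace K832.GlueTorsor

open K832.OverAff K832.GlueAlg K832.GlueAlg.Sq K832.GlueCat K832.GlueGeom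

variable {R : Type u} [CommRing R]

theorem flat_sec (Y : Over (Spec (CommRingCat.of R))) [IsAffine Y.left] [Flat Y.hom] :
    Module.Flat R (Sec Y) := by
  have h1 : Y.hom.appTop.hom.Flat :=
    HasRingHomProperty.appTop (P := @Flat) Y.hom inferInstance
  have h2 : Function.Bijective (Scheme.ΓSpecIso (CommRingCat.of R)).inv.hom :=
    (ConcreteCategory.isIso_iff_bijective _).1 inferInstance
  have h3 : (str Y).hom.Flat := (RingHom.Flat.of_bijective h2).comp h1
  exact h3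

theorem fp_sec (Y : Over (Spec (CommRingCat.of R))) [IsAffine Y.left]
    [LocallyOfFinitePresentation Y.hom] : Algebra.FinitePresentation R (Sec Y) := by
  have h1 : Y.hom.appTop.hom.FinitePresentation :=
    HasRingHomProperty.appTop (P := @LocallyOfFinitePresentation) Y.hom inferInstance
  have h2 : Function.Bijective (Scheme.ΓSpecIso (CommRingCat.of R)).inv.hom :=
    (ConcreteCategory.isIso_iff_bijective _).1 inferInstance
  have h3 : (str Y).hom.FinitePresentation :=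
    h1.comp (RingHom.FinitePresentation.of_bijective h2)
  exact h3

variable {r : R} {T₁ T₂ T₁₂ : Type u} [CommRing T₁] [CommRing T₂]
    [CommRing T₁₂] [Algebra R T₁] [Algebra R T₂] [Algebra R T₁₂] {α₁ : T₁ →ₐ[R] T₁₂}
    {α₂ : T₂ →ₐ[R] T₁₂} (S : Sq R r T₁ T₂ T₁₂ α₁ α₂)
    (G : Over (Spec (CommRingCat.of R))) [GrpObj G] [IsAffine G.left]
    [Module.Flat R (Sec G)] [Algebra.FinitePresentation R (Sec G)]
    (g : U R T₁₂ ⟶ G)

include S in
theorem exists_torsor : ∃ a : AlgGrp.Action G (X α₁ α₂ G g),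
    NonAbH1.IsTorsorFor Scheme.fppfPrecoverage a := by
  have hfl : Module.Flat R (glued α₁ α₂ (γ G g)) := S.flat_glued _ (γ_one_tmul G g)
  have hfp : Algebra.FinitePresentation R (glued α₁ α₂ (γ G g)) :=
    S.fp_glued _ (γ_one_tmul G g)
  have hfX : Module.Flat R (Sec (X α₁ α₂ G g)) := flat_U
  have hf1 : Module.Flat R (Sec (𝟙_ (Over (Spec (CommRingCat.of R))))) := flat_unit
  have hf2 := flat_tensor G (X α₁ α₂ G g)
  have hf3 := flat_tensor (𝟙_ (Over (Spec (CommRingCat.of R)))) (X α₁ α₂ G g)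
  have hf4 := flat_tensor G G
  have hf5 := flat_tensor (G ⊗ G) (X α₁ α₂ G g)
  have hf6 := flat_tensor (X α₁ α₂ G g) (X α₁ α₂ G g)
  let D := data S G g
  obtain ⟨act, h1, h2⟩ := D.exists_act (glueTo S (G ⊗ X α₁ α₂ G g) (X α₁ α₂ G g))
  have hff := S.ff
  have hflat : Flat (X α₁ α₂ G g).hom := by
    change Flat (Spec.map _)
    rw [Flat.SpecMap_iff, CommRingCat.hom_ofHom, RingHom.flat_algebraMap_iff]
    exact hfl
  have hlfp : LocallyOfFinitePresentation (X α₁ α₂ G g).hom := by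
    change LocallyOfFinitePresentation (Spec.map _)
    rw [LocallyOfFinitePresentation.SpecMap_iff, CommRingCat.hom_ofHom,
      RingHom.finitePresentation_algebraMap]
    exact hfp
  have hsurj : Surjective (X α₁ α₂ G g).hom := by
    let f : U R T₂ ⟶ X α₁ α₂ G g := lift (1 : U R T₂ ⟶ G) (𝟙 _) ≫ i₂ α₁ α₂ G g
    have h3 : Surjective (f.left ≫ (X α₁ α₂ G g).hom) := by
      rw [Over.w]
      change Surjective (Spec.map _)
      constructor
      exact PrimeSpectrum.comap_surjective_of_faithfullyFlat (A := R) (B := T₂)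
    exact Surjective.of_comp f.left _
  refine ⟨⟨act, D.one_act act h1 h2 (glueTo S (𝟙_ _ ⊗ X α₁ α₂ G g) (X α₁ α₂ G g)),
      D.mul_act act h1 h2 (glueTo S ((G ⊗ G) ⊗ X α₁ α₂ G g) (X α₁ α₂ G g))⟩,
    D.isIso_lift_act act h1 h2 (glueTo S (X α₁ α₂ G g ⊗ X α₁ α₂ G g) G)
      (glueTo S (G ⊗ X α₁ α₂ G g) G) (glueTo S (X α₁ α₂ G g ⊗ X α₁ α₂ G g) (X α₁ α₂ G g)),
    Presieve.singleton (X α₁ α₂ G g).hom, Scheme.Hom.singleton_mem_fppfPrecoverage _, ?_⟩
  rintro _ _ ⟨⟩
  exact ⟨𝟙 _, Category.id_comp _⟩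

include S in
/-- The decomposition of a point over the overlap. -/
theorem exists_factor (K : Type u) [CommRing K] [Algebra R K] (φ : T₁ →ₐ[R] K)
    (hGS : ∀ (X : Over (Spec (CommRingCat.of R))) (a : AlgGrp.Action G X),
      NonAbH1.IsTorsorFor Scheme.fppfPrecoverage a →
      NonAbH1.HasSectionOver X (Spec.map (CommRingCat.ofHom (algebraMap R K))) →
      NonAbH1.HasSectionOver X (𝟙 (Spec (CommRingCat.of R)))) :
    ∃ (g₁ : U R T₁ ⟶ G) (g₂ : U R T₂ ⟶ G), g = (Umap α₂ ≫ g₂) * (Umap α₁ ≫ g₁) := by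
  obtain ⟨a, ha⟩ := exists_torsor S G g⁻¹
  obtain ⟨s, hs⟩ := hGS _ a ha (by
    let f : U R K ⟶ X α₁ α₂ G g⁻¹ :=
      Umap φ ≫ lift (1 : U R T₁ ⟶ G) (𝟙 _) ≫ i₁ α₁ α₂ G g⁻¹
    exact ⟨f.left, Over.w f⟩)
  let s' : 𝟙_ (Over (Spec (CommRingCat.of R))) ⟶ X α₁ α₂ G g⁻¹ := Over.homMk s hs
  obtain ⟨y₁, y₂, hy⟩ := (data S G g⁻¹).exists_decomp s'
  refine ⟨y₁, y₂⁻¹, ?_⟩
  rw [GrpObj.comp_inv, hy]
  simp

end K832.GlueTorsor
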