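import Groth.Agent.ValPrufer.K832.CoherentRing
import Groth.Agent.S0429
import Groth.Agent.Desc.FPSections
import Groth.Agent.Desc.FinLocFreeSections
import Groth.Agent.PerfC.FPSections
import Groth.Agent.PerfA.QCohEpi
import Groth.Agent.PerfA.QCohSerre
import Groth.Agent.Flat2B.GExSC4B

/-!
# Kernels of epimorphisms of finitely presented modules over flat schemes over a Prüfer domain
-/

set_option autoImplicit false
universe u

open CategoryTheory CategoryTheory.Limits AlgebraicGeometry

namespace K832.KerFP

open K832.Basic Groth.Agent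

theorem isPruf_of_ringEquiv {A B : Type u} [CommRing A] [IsDomain A] [CommRing B] [IsDomain B]
    (hA : IsPruf A) (e : A ≃+* B) : IsPruf B := by
  let _ : Algebra A B := e.toRingHom.toAlgebra
  have : IsLocalization.Away (1 : A) B :=
    IsLocalization.away_of_isUnit_of_bijective B isUnit_one e.bijective
  exact hA.localization (Submonoid.powers (1 : A)) B

theorem locallyOfFinitePresentation_of_flat {R : Type u} [CommRing R] [IsDomain R]
    {X : Scheme.{u}} (f : X ⟶ Spec (CommRingCat.of R)) [Flat f] [LocallyOfFiniteType f] :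
    LocallyOfFinitePresentation f := by
  have : IsIntegral (Spec (CommRingCat.of R)) := inferInstance
  exact S0429.result f

/-- Sections of a morphism of modules as a linear map. -/
noncomputable def appLin {X : Scheme.{u}} {F G : X.Modules} (φ : F ⟶ G) (V : X.Opens) :
    Γ(F, V) →ₗ[Γ(X, V)] Γ(G, V) where
  toFun := φ.app V
  map_add' := map_add _
  map_smul' a x := Scheme.Modules.Hom.app_smul φ a x

theorem isFP_kernel {R : Type u} [CommRing R] [IsDomain R] (hR : IsPruf R)
    {X : Scheme.{u}} (f : X ⟶ Spec (CommRingCat.of R)) [LocallyOfFinitePresentation f]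
    {F G : X.Modules} (hF : CohB1.IsFP F) (hG : CohB1.IsFP G) (φ : F ⟶ G) [Epi φ] :
    CohB1.IsFP (kernel φ) := by
  have hFq : Coh.IsQCoh F := PerfC.FPSections.isQCoh_of_isFP hF
  have hGq : Coh.IsQCoh G := PerfC.FPSections.isQCoh_of_isFP hG
  have hK : Coh.IsQCoh (kernel φ) := PerfA.QCohSerre.isQCoh_kernel φ hFq hGq
  refine (Desc.FPSections.isFP_iff_of_cover hK IsAffineOpen ?_).2 ?_
  · intro x
    obtain ⟨V, hV, hx, -⟩ := exists_isAffineOpen_mem_and_subset (x := x) (U := (⊤ : X.Opens))
      trivial
    exact ⟨V, hV, hV, hx⟩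
  · intro V hV _
    let A := Γ(Spec (CommRingCat.of R), ⊤)
    let eA : R ≃+* A := (Scheme.ΓSpecIso (CommRingCat.of R)).symm.commRingCatIsoToRingEquiv
    have hdA : IsDomain A := eA.symm.toMulEquiv.isDomain _
    have hA : IsPruf A := isPruf_of_ringEquiv hR eA
    let _ : Algebra A Γ(X, V) := (f.appLE ⊤ V le_top).hom.toAlgebra
    have hfp : Algebra.FinitePresentation A Γ(X, V) :=
      f.finitePresentation_appLE (isAffineOpen_top _) hV le_top
    have h1 : Module.FinitePresentation Γ(X, V) Γ(F, V) :=
      Desc.FPSections.finitePresentation_sections hV hFq hF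
    have h2 : Module.FinitePresentation Γ(X, V) Γ(G, V) :=
      Desc.FPSections.finitePresentation_sections hV hGq hG
    have hs : Function.Surjective (appLin φ V) := PerfA.QCohEpi.app_surjective_of_epi φ hV
    have hN : (LinearMap.ker (appLin φ V)).FG := Module.FinitePresentation.fg_ker _ hs
    have h3 : Module.FinitePresentation Γ(X, V) (LinearMap.ker (appLin φ V)) :=
      K832.CoherentRing.fp_submodule hA _ hN
    have hinj : Function.Injective (appLin (kernel.ι φ) V) := Flat2B.GExSC4.kernel_sec_inj φ V
    have hrange : LinearMap.range (appLin (kernel.ι φ) V) = LinearMap.ker (appLin φ V) := by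
      apply le_antisymm
      · rintro _ ⟨x, rfl⟩
        have h4 : (kernel.ι φ ≫ φ).app V x = (0 : Γ(G, V)) := by
          rw [kernel.condition]
          rfl
        exact h4
      · intro y hy
        obtain ⟨t, ht⟩ := Flat2B.GExSC4.exists_kernel_sec φ V y hy
        exact ⟨t, ht⟩
    exact Module.FinitePresentation.of_equiv
      ((LinearEquiv.ofInjective _ hinj).trans (LinearEquiv.ofEq _ _ hrange)).symm

end K832.KerFP
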